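import Cfsg.Agent.Lib.ToddCox.M21C1.Data0
set_option autoImplicit false
set_option maxRecDepth 100000
namespace Cfsg.Agent.Lib.ToddCox.M21C1
def eT_0_2 (j : ℕ) : ℕ := bif Nat.blt j 1 then E_0 else E_1
def eT_2_4 (j : ℕ) : ℕ := bif Nat.blt j 3 then E_2 else E_3
def eT_0_4 (j : ℕ) : ℕ := bif Nat.blt j 2 then (eT_0_2 j) else (eT_2_4 j)
def eT_4_6 (j : ℕ) : ℕ := bif Nat.blt j 5 then E_4 else E_5
def eT_7_9 (j : ℕ) : ℕ := bif Nat.blt j 8 then E_7 else E_8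
def eT_6_9 (j : ℕ) : ℕ := bif Nat.blt j 7 then E_6 else (eT_7_9 j)
def eT_4_9 (j : ℕ) : ℕ := bif Nat.blt j 6 then (eT_4_6 j) else (eT_6_9 j)
def eT_0_9 (j : ℕ) : ℕ := bif Nat.blt j 4 then (eT_0_4 j) else (eT_4_9 j)
def eT_9_11 (j : ℕ) : ℕ := bif Nat.blt j 10 then E_9 else E_10
def eT_12_14 (j : ℕ) : ℕ := bif Nat.blt j 13 then E_12 else E_13
def eT_11_14 (j : ℕ) : ℕ := bif Nat.blt j 12 then E_11 else (eT_12_14 j)
def eT_9_14 (j : ℕ) : ℕ := bif Nat.blt j 11 then (eT_9_11 j) else (eT_11_14 j)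
def eT_14_16 (j : ℕ) : ℕ := bif Nat.blt j 15 then E_14 else E_15
def eT_17_19 (j : ℕ) : ℕ := bif Nat.blt j 18 then E_17 else E_18
def eT_16_19 (j : ℕ) : ℕ := bif Nat.blt j 17 then E_16 else (eT_17_19 j)
def eT_14_19 (j : ℕ) : ℕ := bif Nat.blt j 16 then (eT_14_16 j) else (eT_16_19 j)
def eT_9_19 (j : ℕ) : ℕ := bif Nat.blt j 14 then (eT_9_14 j) else (eT_14_19 j)
def eT_0_19 (j : ℕ) : ℕ := bif Nat.blt j 9 then (eT_0_9 j) else (eT_9_19 j)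
def eT_19_21 (j : ℕ) : ℕ := bif Nat.blt j 20 then E_19 else E_20
def eT_21_23 (j : ℕ) : ℕ := bif Nat.blt j 22 then E_21 else E_22
def eT_19_23 (j : ℕ) : ℕ := bif Nat.blt j 21 then (eT_19_21 j) else (eT_21_23 j)
def eT_23_25 (j : ℕ) : ℕ := bif Nat.blt j 24 then E_23 else E_24
def eT_26_28 (j : ℕ) : ℕ := bif Nat.blt j 27 then E_26 else E_27
def eT_25_28 (j : ℕ) : ℕ := bif Nat.blt j 26 then E_25 else (eT_26_28 j)
def eT_23_28 (j : ℕ) : ℕ := bif Nat.blt j 25 then (eT_23_25 j) else (eT_25_28 j)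
def eT_19_28 (j : ℕ) : ℕ := bif Nat.blt j 23 then (eT_19_23 j) else (eT_23_28 j)
def eT_28_30 (j : ℕ) : ℕ := bif Nat.blt j 29 then E_28 else E_29
def eT_31_33 (j : ℕ) : ℕ := bif Nat.blt j 32 then E_31 else E_32
def eT_30_33 (j : ℕ) : ℕ := bif Nat.blt j 31 then E_30 else (eT_31_33 j)
def eT_28_33 (j : ℕ) : ℕ := bif Nat.blt j 30 then (eT_28_30 j) else (eT_30_33 j)
def eT_33_35 (j : ℕ) : ℕ := bif Nat.blt j 34 then E_33 else E_34
def eT_36_38 (j : ℕ) : ℕ := bif Nat.blt j 37 then E_36 else E_37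
def eT_35_38 (j : ℕ) : ℕ := bif Nat.blt j 36 then E_35 else (eT_36_38 j)
def eT_33_38 (j : ℕ) : ℕ := bif Nat.blt j 35 then (eT_33_35 j) else (eT_35_38 j)
def eT_28_38 (j : ℕ) : ℕ := bif Nat.blt j 33 then (eT_28_33 j) else (eT_33_38 j)
def eT_19_38 (j : ℕ) : ℕ := bif Nat.blt j 28 then (eT_19_28 j) else (eT_28_38 j)
def eT_0_38 (j : ℕ) : ℕ := bif Nat.blt j 19 then (eT_0_19 j) else (eT_19_38 j)
def eT_38_40 (j : ℕ) : ℕ := bif Nat.blt j 39 then E_38 else E_39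
def eT_40_42 (j : ℕ) : ℕ := bif Nat.blt j 41 then E_40 else E_41
def eT_38_42 (j : ℕ) : ℕ := bif Nat.blt j 40 then (eT_38_40 j) else (eT_40_42 j)
def eT_42_44 (j : ℕ) : ℕ := bif Nat.blt j 43 then E_42 else E_43
def eT_45_47 (j : ℕ) : ℕ := bif Nat.blt j 46 then E_45 else E_46
def eT_44_47 (j : ℕ) : ℕ := bif Nat.blt j 45 then E_44 else (eT_45_47 j)
def eT_42_47 (j : ℕ) : ℕ := bif Nat.blt j 44 then (eT_42_44 j) else (eT_44_47 j)
def eT_38_47 (j : ℕ) : ℕ := bif Nat.blt j 42 then (eT_38_42 j) else (eT_42_47 j)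
def eT_47_49 (j : ℕ) : ℕ := bif Nat.blt j 48 then E_47 else E_48
def eT_50_52 (j : ℕ) : ℕ := bif Nat.blt j 51 then E_50 else E_51
def eT_49_52 (j : ℕ) : ℕ := bif Nat.blt j 50 then E_49 else (eT_50_52 j)
def eT_47_52 (j : ℕ) : ℕ := bif Nat.blt j 49 then (eT_47_49 j) else (eT_49_52 j)
def eT_52_54 (j : ℕ) : ℕ := bif Nat.blt j 53 then E_52 else E_53
def eT_55_57 (j : ℕ) : ℕ := bif Nat.blt j 56 then E_55 else E_56
def eT_54_57 (j : ℕ) : ℕ := bif Nat.blt j 55 then E_54 else (eT_55_57 j)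
def eT_52_57 (j : ℕ) : ℕ := bif Nat.blt j 54 then (eT_52_54 j) else (eT_54_57 j)
def eT_47_57 (j : ℕ) : ℕ := bif Nat.blt j 52 then (eT_47_52 j) else (eT_52_57 j)
def eT_38_57 (j : ℕ) : ℕ := bif Nat.blt j 47 then (eT_38_47 j) else (eT_47_57 j)
def eT_57_59 (j : ℕ) : ℕ := bif Nat.blt j 58 then E_57 else E_58
def eT_59_61 (j : ℕ) : ℕ := bif Nat.blt j 60 then E_59 else E_60
def eT_57_61 (j : ℕ) : ℕ := bif Nat.blt j 59 then (eT_57_59 j) else (eT_59_61 j)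
def eT_61_63 (j : ℕ) : ℕ := bif Nat.blt j 62 then E_61 else E_62
def eT_64_66 (j : ℕ) : ℕ := bif Nat.blt j 65 then E_64 else E_65
def eT_63_66 (j : ℕ) : ℕ := bif Nat.blt j 64 then E_63 else (eT_64_66 j)
def eT_61_66 (j : ℕ) : ℕ := bif Nat.blt j 63 then (eT_61_63 j) else (eT_63_66 j)
def eT_57_66 (j : ℕ) : ℕ := bif Nat.blt j 61 then (eT_57_61 j) else (eT_61_66 j)
def eT_66_68 (j : ℕ) : ℕ := bif Nat.blt j 67 then E_66 else E_67
def eT_69_71 (j : ℕ) : ℕ := bif Nat.blt j 70 then E_69 else E_70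
def eT_68_71 (j : ℕ) : ℕ := bif Nat.blt j 69 then E_68 else (eT_69_71 j)
def eT_66_71 (j : ℕ) : ℕ := bif Nat.blt j 68 then (eT_66_68 j) else (eT_68_71 j)
def eT_71_73 (j : ℕ) : ℕ := bif Nat.blt j 72 then E_71 else E_72
def eT_74_76 (j : ℕ) : ℕ := bif Nat.blt j 75 then E_74 else E_75
def eT_73_76 (j : ℕ) : ℕ := bif Nat.blt j 74 then E_73 else (eT_74_76 j)
def eT_71_76 (j : ℕ) : ℕ := bif Nat.blt j 73 then (eT_71_73 j) else (eT_73_76 j)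
def eT_66_76 (j : ℕ) : ℕ := bif Nat.blt j 71 then (eT_66_71 j) else (eT_71_76 j)
def eT_57_76 (j : ℕ) : ℕ := bif Nat.blt j 66 then (eT_57_66 j) else (eT_66_76 j)
def eT_38_76 (j : ℕ) : ℕ := bif Nat.blt j 57 then (eT_38_57 j) else (eT_57_76 j)
def eT_0_76 (j : ℕ) : ℕ := bif Nat.blt j 38 then (eT_0_38 j) else (eT_38_76 j)
def eT_76_78 (j : ℕ) : ℕ := bif Nat.blt j 77 then E_76 else E_77
def eT_78_80 (j : ℕ) : ℕ := bif Nat.blt j 79 then E_78 else E_79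
def eT_76_80 (j : ℕ) : ℕ := bif Nat.blt j 78 then (eT_76_78 j) else (eT_78_80 j)
def eT_80_82 (j : ℕ) : ℕ := bif Nat.blt j 81 then E_80 else E_81
def eT_83_85 (j : ℕ) : ℕ := bif Nat.blt j 84 then E_83 else E_84
def eT_82_85 (j : ℕ) : ℕ := bif Nat.blt j 83 then E_82 else (eT_83_85 j)
def eT_80_85 (j : ℕ) : ℕ := bif Nat.blt j 82 then (eT_80_82 j) else (eT_82_85 j)
def eT_76_85 (j : ℕ) : ℕ := bif Nat.blt j 80 then (eT_76_80 j) else (eT_80_85 j)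
def eT_85_87 (j : ℕ) : ℕ := bif Nat.blt j 86 then E_85 else E_86
def eT_88_90 (j : ℕ) : ℕ := bif Nat.blt j 89 then E_88 else E_89
def eT_87_90 (j : ℕ) : ℕ := bif Nat.blt j 88 then E_87 else (eT_88_90 j)
def eT_85_90 (j : ℕ) : ℕ := bif Nat.blt j 87 then (eT_85_87 j) else (eT_87_90 j)
def eT_90_92 (j : ℕ) : ℕ := bif Nat.blt j 91 then E_90 else E_91
def eT_93_95 (j : ℕ) : ℕ := bif Nat.blt j 94 then E_93 else E_94
def eT_92_95 (j : ℕ) : ℕ := bif Nat.blt j 93 then E_92 else (eT_93_95 j)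
def eT_90_95 (j : ℕ) : ℕ := bif Nat.blt j 92 then (eT_90_92 j) else (eT_92_95 j)
def eT_85_95 (j : ℕ) : ℕ := bif Nat.blt j 90 then (eT_85_90 j) else (eT_90_95 j)
def eT_76_95 (j : ℕ) : ℕ := bif Nat.blt j 85 then (eT_76_85 j) else (eT_85_95 j)
def eT_95_97 (j : ℕ) : ℕ := bif Nat.blt j 96 then E_95 else E_96
def eT_97_99 (j : ℕ) : ℕ := bif Nat.blt j 98 then E_97 else E_98
def eT_95_99 (j : ℕ) : ℕ := bif Nat.blt j 97 then (eT_95_97 j) else (eT_97_99 j)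
def eT_99_101 (j : ℕ) : ℕ := bif Nat.blt j 100 then E_99 else E_100
def eT_102_104 (j : ℕ) : ℕ := bif Nat.blt j 103 then E_102 else E_103
def eT_101_104 (j : ℕ) : ℕ := bif Nat.blt j 102 then E_101 else (eT_102_104 j)
def eT_99_104 (j : ℕ) : ℕ := bif Nat.blt j 101 then (eT_99_101 j) else (eT_101_104 j)
def eT_95_104 (j : ℕ) : ℕ := bif Nat.blt j 99 then (eT_95_99 j) else (eT_99_104 j)
def eT_104_106 (j : ℕ) : ℕ := bif Nat.blt j 105 then E_104 else E_105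
def eT_107_109 (j : ℕ) : ℕ := bif Nat.blt j 108 then E_107 else E_108
def eT_106_109 (j : ℕ) : ℕ := bif Nat.blt j 107 then E_106 else (eT_107_109 j)
def eT_104_109 (j : ℕ) : ℕ := bif Nat.blt j 106 then (eT_104_106 j) else (eT_106_109 j)
def eT_109_111 (j : ℕ) : ℕ := bif Nat.blt j 110 then E_109 else E_110
def eT_112_114 (j : ℕ) : ℕ := bif Nat.blt j 113 then E_112 else E_113
def eT_111_114 (j : ℕ) : ℕ := bif Nat.blt j 112 then E_111 else (eT_112_114 j)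
def eT_109_114 (j : ℕ) : ℕ := bif Nat.blt j 111 then (eT_109_111 j) else (eT_111_114 j)
def eT_104_114 (j : ℕ) : ℕ := bif Nat.blt j 109 then (eT_104_109 j) else (eT_109_114 j)
def eT_95_114 (j : ℕ) : ℕ := bif Nat.blt j 104 then (eT_95_104 j) else (eT_104_114 j)
def eT_76_114 (j : ℕ) : ℕ := bif Nat.blt j 95 then (eT_76_95 j) else (eT_95_114 j)
def eT_114_116 (j : ℕ) : ℕ := bif Nat.blt j 115 then E_114 else E_115
def eT_116_118 (j : ℕ) : ℕ := bif Nat.blt j 117 then E_116 else E_117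
def eT_114_118 (j : ℕ) : ℕ := bif Nat.blt j 116 then (eT_114_116 j) else (eT_116_118 j)
def eT_118_120 (j : ℕ) : ℕ := bif Nat.blt j 119 then E_118 else E_119
def eT_121_123 (j : ℕ) : ℕ := bif Nat.blt j 122 then E_121 else E_122
def eT_120_123 (j : ℕ) : ℕ := bif Nat.blt j 121 then E_120 else (eT_121_123 j)
def eT_118_123 (j : ℕ) : ℕ := bif Nat.blt j 120 then (eT_118_120 j) else (eT_120_123 j)
def eT_114_123 (j : ℕ) : ℕ := bif Nat.blt j 118 then (eT_114_118 j) else (eT_118_123 j)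
def eT_123_125 (j : ℕ) : ℕ := bif Nat.blt j 124 then E_123 else E_124
def eT_126_128 (j : ℕ) : ℕ := bif Nat.blt j 127 then E_126 else E_127
def eT_125_128 (j : ℕ) : ℕ := bif Nat.blt j 126 then E_125 else (eT_126_128 j)
def eT_123_128 (j : ℕ) : ℕ := bif Nat.blt j 125 then (eT_123_125 j) else (eT_125_128 j)
def eT_128_130 (j : ℕ) : ℕ := bif Nat.blt j 129 then E_128 else E_129
def eT_131_133 (j : ℕ) : ℕ := bif Nat.blt j 132 then E_131 else E_132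
def eT_130_133 (j : ℕ) : ℕ := bif Nat.blt j 131 then E_130 else (eT_131_133 j)
def eT_128_133 (j : ℕ) : ℕ := bif Nat.blt j 130 then (eT_128_130 j) else (eT_130_133 j)
def eT_123_133 (j : ℕ) : ℕ := bif Nat.blt j 128 then (eT_123_128 j) else (eT_128_133 j)
def eT_114_133 (j : ℕ) : ℕ := bif Nat.blt j 123 then (eT_114_123 j) else (eT_123_133 j)
def eT_133_135 (j : ℕ) : ℕ := bif Nat.blt j 134 then E_133 else E_134
def eT_136_138 (j : ℕ) : ℕ := bif Nat.blt j 137 then E_136 else E_137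
def eT_135_138 (j : ℕ) : ℕ := bif Nat.blt j 136 then E_135 else (eT_136_138 j)
def eT_133_138 (j : ℕ) : ℕ := bif Nat.blt j 135 then (eT_133_135 j) else (eT_135_138 j)
def eT_138_140 (j : ℕ) : ℕ := bif Nat.blt j 139 then E_138 else E_139
def eT_141_143 (j : ℕ) : ℕ := bif Nat.blt j 142 then E_141 else E_142
def eT_140_143 (j : ℕ) : ℕ := bif Nat.blt j 141 then E_140 else (eT_141_143 j)
def eT_138_143 (j : ℕ) : ℕ := bif Nat.blt j 140 then (eT_138_140 j) else (eT_140_143 j)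
def eT_133_143 (j : ℕ) : ℕ := bif Nat.blt j 138 then (eT_133_138 j) else (eT_138_143 j)
def eT_143_145 (j : ℕ) : ℕ := bif Nat.blt j 144 then E_143 else E_144
def eT_146_148 (j : ℕ) : ℕ := bif Nat.blt j 147 then E_146 else E_147
def eT_145_148 (j : ℕ) : ℕ := bif Nat.blt j 146 then E_145 else (eT_146_148 j)
def eT_143_148 (j : ℕ) : ℕ := bif Nat.blt j 145 then (eT_143_145 j) else (eT_145_148 j)
def eT_148_150 (j : ℕ) : ℕ := bif Nat.blt j 149 then E_148 else E_149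
def eT_151_153 (j : ℕ) : ℕ := bif Nat.blt j 152 then E_151 else E_152
def eT_150_153 (j : ℕ) : ℕ := bif Nat.blt j 151 then E_150 else (eT_151_153 j)
def eT_148_153 (j : ℕ) : ℕ := bif Nat.blt j 150 then (eT_148_150 j) else (eT_150_153 j)
def eT_143_153 (j : ℕ) : ℕ := bif Nat.blt j 148 then (eT_143_148 j) else (eT_148_153 j)
def eT_133_153 (j : ℕ) : ℕ := bif Nat.blt j 143 then (eT_133_143 j) else (eT_143_153 j)
def eT_114_153 (j : ℕ) : ℕ := bif Nat.blt j 133 then (eT_114_133 j) else (eT_133_153 j)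
def eT_76_153 (j : ℕ) : ℕ := bif Nat.blt j 114 then (eT_76_114 j) else (eT_114_153 j)
def eT_0_153 (j : ℕ) : ℕ := bif Nat.blt j 76 then (eT_0_76 j) else (eT_76_153 j)
def eT (j : ℕ) : ℕ := (eT_0_153 j)
noncomputable def chunkF (h : ℕ) : ℕ := Nat.rec (motive := fun _ => ℕ) (eT 0) (fun n _ => eT (Nat.succ n)) h
noncomputable def Eo (r : ℕ) : ℕ := Nat.land (Nat.shiftRight (chunkF (Nat.shiftRight r 8)) (Nat.mul (Nat.land r 255) 54)) 18014398509481983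
def invT : ℕ := 0xffef7cefae78df6d74cf2c70beeb6caeaa689e69648e28607de75c6da6585d65544d24503ce34c2ca2481c61440c2040
def inv (y : ℕ) : ℕ := invOf invT y
def Wt_0_2 (j : ℕ) : List ℕ := bif Nat.blt j 1 then [nat_lit 0, nat_lit 2, nat_lit 0, nat_lit 2] else [nat_lit 3, nat_lit 1, nat_lit 2, nat_lit 0, nat_lit 2, nat_lit 1, nat_lit 3, nat_lit 1, nat_lit 2, nat_lit 0, nat_lit 2, nat_lit 1, nat_lit 3, nat_lit 1, nat_lit 2, nat_lit 0, nat_lit 2, nat_lit 1]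
def Wt_3_5 (j : ℕ) : List ℕ := bif Nat.blt j 4 then [nat_lit 2, nat_lit 0, nat_lit 2, nat_lit 0] else [nat_lit 1, nat_lit 0, nat_lit 1, nat_lit 0, nat_lit 1, nat_lit 0, nat_lit 1, nat_lit 0, nat_lit 1, nat_lit 0]
def Wt_2_5 (j : ℕ) : List ℕ := bif Nat.blt j 3 then [nat_lit 2, nat_lit 1, nat_lit 2, nat_lit 1, nat_lit 2, nat_lit 1] else (Wt_3_5 j)
def Wt_0_5 (j : ℕ) : List ℕ := bif Nat.blt j 2 then (Wt_0_2 j) else (Wt_2_5 j)
def Wt_5_7 (j : ℕ) : List ℕ := bif Nat.blt j 6 then [nat_lit 63, nat_lit 2, nat_lit 0, nat_lit 2, nat_lit 3, nat_lit 1, nat_lit 2, nat_lit 0, nat_lit 2, nat_lit 3, nat_lit 1, nat_lit 2, nat_lit 0, nat_lit 2, nat_lit 3, nat_lit 1, nat_lit 2, nat_lit 0, nat_lit 2, nat_lit 3, nat_lit 1] else [nat_lit 63, nat_lit 1, nat_lit 63, nat_lit 1]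
def Wt_8_10 (j : ℕ) : List ℕ := bif Nat.blt j 9 then [nat_lit 2, nat_lit 0, nat_lit 3, nat_lit 1, nat_lit 0, nat_lit 2, nat_lit 0, nat_lit 3, nat_lit 1, nat_lit 0, nat_lit 2, nat_lit 0, nat_lit 3, nat_lit 1, nat_lit 0, nat_lit 2, nat_lit 0, nat_lit 3, nat_lit 1, nat_lit 0] else [nat_lit 63, nat_lit 2, nat_lit 0, nat_lit 2, nat_lit 0]
def Wt_7_10 (j : ℕ) : List ℕ := bif Nat.blt j 8 then [nat_lit 1, nat_lit 1, nat_lit 63] else (Wt_8_10 j)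
def Wt_5_10 (j : ℕ) : List ℕ := bif Nat.blt j 7 then (Wt_5_7 j) else (Wt_7_10 j)
def Wt_0_10 (j : ℕ) : List ℕ := bif Nat.blt j 5 then (Wt_0_5 j) else (Wt_5_10 j)
def Wt_10_12 (j : ℕ) : List ℕ := bif Nat.blt j 11 then [nat_lit 2, nat_lit 2, nat_lit 63] else [nat_lit 3, nat_lit 1, nat_lit 0, nat_lit 2, nat_lit 1, nat_lit 0, nat_lit 1, nat_lit 3, nat_lit 1, nat_lit 0, nat_lit 2, nat_lit 1, nat_lit 0, nat_lit 1, nat_lit 3, nat_lit 1, nat_lit 0, nat_lit 2, nat_lit 1, nat_lit 0, nat_lit 1]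
def Wt_13_15 (j : ℕ) : List ℕ := bif Nat.blt j 14 then [nat_lit 3, nat_lit 2, nat_lit 1, nat_lit 2, nat_lit 0, nat_lit 1, nat_lit 2, nat_lit 3, nat_lit 2, nat_lit 1, nat_lit 2, nat_lit 0, nat_lit 1, nat_lit 2, nat_lit 3, nat_lit 2, nat_lit 1, nat_lit 2, nat_lit 0, nat_lit 1, nat_lit 2] else [nat_lit 1, nat_lit 3, nat_lit 1, nat_lit 0, nat_lit 2, nat_lit 3, nat_lit 1, nat_lit 3, nat_lit 1, nat_lit 0, nat_lit 2, nat_lit 3, nat_lit 1, nat_lit 3, nat_lit 1, nat_lit 0, nat_lit 2, nat_lit 3]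
def Wt_12_15 (j : ℕ) : List ℕ := bif Nat.blt j 13 then [nat_lit 1, nat_lit 2, nat_lit 1, nat_lit 2, nat_lit 1, nat_lit 2] else (Wt_13_15 j)
def Wt_10_15 (j : ℕ) : List ℕ := bif Nat.blt j 12 then (Wt_10_12 j) else (Wt_12_15 j)
def Wt_15_17 (j : ℕ) : List ℕ := bif Nat.blt j 16 then [nat_lit 63, nat_lit 1, nat_lit 2, nat_lit 0, nat_lit 2, nat_lit 3, nat_lit 1, nat_lit 2, nat_lit 0, nat_lit 2, nat_lit 3, nat_lit 1, nat_lit 2, nat_lit 0, nat_lit 2, nat_lit 3, nat_lit 1, nat_lit 2, nat_lit 0, nat_lit 2, nat_lit 3] else [nat_lit 0, nat_lit 2, nat_lit 3, nat_lit 1, nat_lit 2, nat_lit 0, nat_lit 2, nat_lit 3, nat_lit 1, nat_lit 2, nat_lit 0, nat_lit 2, nat_lit 3, nat_lit 1, nat_lit 2, nat_lit 0, nat_lit 2, nat_lit 3, nat_lit 1, nat_lit 2]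
def Wt_18_20 (j : ℕ) : List ℕ := bif Nat.blt j 19 then [nat_lit 0, nat_lit 0, nat_lit 63] else [nat_lit 1, nat_lit 3, nat_lit 0, nat_lit 2, nat_lit 0, nat_lit 1, nat_lit 3, nat_lit 0, nat_lit 2, nat_lit 0, nat_lit 1, nat_lit 3, nat_lit 0, nat_lit 2, nat_lit 0, nat_lit 1, nat_lit 3, nat_lit 0, nat_lit 2, nat_lit 0]
def Wt_17_20 (j : ℕ) : List ℕ := bif Nat.blt j 18 then [nat_lit 63, nat_lit 0, nat_lit 63, nat_lit 0] else (Wt_18_20 j)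
def Wt_15_20 (j : ℕ) : List ℕ := bif Nat.blt j 17 then (Wt_15_17 j) else (Wt_17_20 j)
def Wt_10_20 (j : ℕ) : List ℕ := bif Nat.blt j 15 then (Wt_10_15 j) else (Wt_15_20 j)
def Wt_0_20 (j : ℕ) : List ℕ := bif Nat.blt j 10 then (Wt_0_10 j) else (Wt_10_20 j)
def Wt_20_22 (j : ℕ) : List ℕ := bif Nat.blt j 21 then [nat_lit 1, nat_lit 2, nat_lit 1, nat_lit 2, nat_lit 0, nat_lit 1, nat_lit 2, nat_lit 1, nat_lit 2, nat_lit 0, nat_lit 1, nat_lit 2, nat_lit 1, nat_lit 2, nat_lit 0, nat_lit 1, nat_lit 2, nat_lit 1, nat_lit 2, nat_lit 0, nat_lit 1, nat_lit 2, nat_lit 1, nat_lit 2, nat_lit 0] else [nat_lit 0, nat_lit 1, nat_lit 0, nat_lit 1, nat_lit 0, nat_lit 1, nat_lit 0, nat_lit 1, nat_lit 0, nat_lit 1]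
def Wt_23_25 (j : ℕ) : List ℕ := bif Nat.blt j 24 then [nat_lit 63, nat_lit 2, nat_lit 0, nat_lit 2, nat_lit 1, nat_lit 3, nat_lit 1, nat_lit 2, nat_lit 0, nat_lit 2, nat_lit 1, nat_lit 3, nat_lit 1, nat_lit 2, nat_lit 0, nat_lit 2, nat_lit 1, nat_lit 3, nat_lit 1] else [nat_lit 0, nat_lit 2, nat_lit 3, nat_lit 1, nat_lit 3, nat_lit 1, nat_lit 0, nat_lit 2, nat_lit 3, nat_lit 1, nat_lit 3, nat_lit 1, nat_lit 0, nat_lit 2, nat_lit 3, nat_lit 1, nat_lit 3, nat_lit 1]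
def Wt_22_25 (j : ℕ) : List ℕ := bif Nat.blt j 23 then [nat_lit 2, nat_lit 1, nat_lit 0, nat_lit 2, nat_lit 1, nat_lit 2, nat_lit 1, nat_lit 0, nat_lit 2, nat_lit 1, nat_lit 2, nat_lit 1, nat_lit 0, nat_lit 2, nat_lit 1, nat_lit 2, nat_lit 1, nat_lit 0, nat_lit 2, nat_lit 1, nat_lit 2, nat_lit 1, nat_lit 0, nat_lit 2, nat_lit 1] else (Wt_23_25 j)
def Wt_20_25 (j : ℕ) : List ℕ := bif Nat.blt j 22 then (Wt_20_22 j) else (Wt_22_25 j)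
def Wt_25_27 (j : ℕ) : List ℕ := bif Nat.blt j 26 then [nat_lit 63, nat_lit 1, nat_lit 3, nat_lit 0, nat_lit 2, nat_lit 0, nat_lit 1, nat_lit 3, nat_lit 0, nat_lit 2, nat_lit 0, nat_lit 1, nat_lit 3, nat_lit 0, nat_lit 2, nat_lit 0, nat_lit 1, nat_lit 3, nat_lit 0, nat_lit 2, nat_lit 0] else [nat_lit 0, nat_lit 2, nat_lit 1, nat_lit 3, nat_lit 1, nat_lit 2, nat_lit 0, nat_lit 2, nat_lit 1, nat_lit 3, nat_lit 1, nat_lit 2, nat_lit 0, nat_lit 2, nat_lit 1, nat_lit 3, nat_lit 1, nat_lit 2]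
def Wt_28_30 (j : ℕ) : List ℕ := bif Nat.blt j 29 then [nat_lit 0, nat_lit 2, nat_lit 1, nat_lit 2, nat_lit 3, nat_lit 2, nat_lit 1, nat_lit 0, nat_lit 2, nat_lit 1, nat_lit 2, nat_lit 3, nat_lit 2, nat_lit 1, nat_lit 0, nat_lit 2, nat_lit 1, nat_lit 2, nat_lit 3, nat_lit 2, nat_lit 1] else [nat_lit 0, nat_lit 2, nat_lit 1, nat_lit 3, nat_lit 2, nat_lit 0, nat_lit 2, nat_lit 1, nat_lit 3, nat_lit 2, nat_lit 0, nat_lit 2, nat_lit 1, nat_lit 3, nat_lit 2, nat_lit 0, nat_lit 2, nat_lit 1, nat_lit 3, nat_lit 2]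
def Wt_27_30 (j : ℕ) : List ℕ := bif Nat.blt j 28 then [nat_lit 2, nat_lit 0, nat_lit 1, nat_lit 2, nat_lit 3, nat_lit 2, nat_lit 1, nat_lit 2, nat_lit 0, nat_lit 1, nat_lit 2, nat_lit 3, nat_lit 2, nat_lit 1, nat_lit 2, nat_lit 0, nat_lit 1, nat_lit 2, nat_lit 3, nat_lit 2, nat_lit 1] else (Wt_28_30 j)
def Wt_25_30 (j : ℕ) : List ℕ := bif Nat.blt j 27 then (Wt_25_27 j) else (Wt_27_30 j)
def Wt_20_30 (j : ℕ) : List ℕ := bif Nat.blt j 25 then (Wt_20_25 j) else (Wt_25_30 j)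
def Wt_30_32 (j : ℕ) : List ℕ := bif Nat.blt j 31 then [nat_lit 0, nat_lit 1, nat_lit 3, nat_lit 1, nat_lit 0, nat_lit 1, nat_lit 2, nat_lit 0, nat_lit 1, nat_lit 3, nat_lit 1, nat_lit 0, nat_lit 1, nat_lit 2, nat_lit 0, nat_lit 1, nat_lit 3, nat_lit 1, nat_lit 0, nat_lit 1, nat_lit 2] else [nat_lit 1, nat_lit 2, nat_lit 0, nat_lit 2, nat_lit 1, nat_lit 3, nat_lit 1, nat_lit 2, nat_lit 0, nat_lit 2, nat_lit 1, nat_lit 3, nat_lit 1, nat_lit 2, nat_lit 0, nat_lit 2, nat_lit 1, nat_lit 3]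
def Wt_33_35 (j : ℕ) : List ℕ := bif Nat.blt j 34 then [nat_lit 2, nat_lit 3, nat_lit 0, nat_lit 2, nat_lit 1, nat_lit 3, nat_lit 0, nat_lit 2, nat_lit 3, nat_lit 0, nat_lit 2, nat_lit 1, nat_lit 3, nat_lit 0, nat_lit 2, nat_lit 3, nat_lit 0, nat_lit 2, nat_lit 1, nat_lit 3, nat_lit 0] else [nat_lit 1, nat_lit 2, nat_lit 0, nat_lit 1, nat_lit 3, nat_lit 1, nat_lit 0, nat_lit 1, nat_lit 2, nat_lit 0, nat_lit 1, nat_lit 3, nat_lit 1, nat_lit 0, nat_lit 1, nat_lit 2, nat_lit 0, nat_lit 1, nat_lit 3, nat_lit 1, nat_lit 0]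
def Wt_32_35 (j : ℕ) : List ℕ := bif Nat.blt j 33 then [nat_lit 2, nat_lit 0, nat_lit 1, nat_lit 3, nat_lit 0, nat_lit 2, nat_lit 0, nat_lit 1, nat_lit 3, nat_lit 0, nat_lit 2, nat_lit 0, nat_lit 1, nat_lit 3, nat_lit 0, nat_lit 2, nat_lit 0, nat_lit 1, nat_lit 3, nat_lit 0] else (Wt_33_35 j)
def Wt_30_35 (j : ℕ) : List ℕ := bif Nat.blt j 32 then (Wt_30_32 j) else (Wt_32_35 j)
def Wt_35_37 (j : ℕ) : List ℕ := bif Nat.blt j 36 then [nat_lit 63, nat_lit 1, nat_lit 2, nat_lit 0, nat_lit 2, nat_lit 1, nat_lit 3, nat_lit 1, nat_lit 2, nat_lit 0, nat_lit 2, nat_lit 1, nat_lit 3, nat_lit 1, nat_lit 2, nat_lit 0, nat_lit 2, nat_lit 1, nat_lit 3] else [nat_lit 2, nat_lit 0, nat_lit 3, nat_lit 2, nat_lit 0, nat_lit 3, nat_lit 1, nat_lit 2, nat_lit 0, nat_lit 3, nat_lit 2, nat_lit 0, nat_lit 3, nat_lit 1, nat_lit 2, nat_lit 0, nat_lit 3, nat_lit 2, nat_lit 0, nat_lit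 3, nat_lit 1]
def Wt_38_40 (j : ℕ) : List ℕ := bif Nat.blt j 39 then [nat_lit 3, nat_lit 3, nat_lit 63] else [nat_lit 1, nat_lit 3, nat_lit 1, nat_lit 0, nat_lit 2, nat_lit 1, nat_lit 0, nat_lit 1, nat_lit 3, nat_lit 1, nat_lit 0, nat_lit 2, nat_lit 1, nat_lit 0, nat_lit 1, nat_lit 3, nat_lit 1, nat_lit 0, nat_lit 2, nat_lit 1, nat_lit 0]
def Wt_37_40 (j : ℕ) : List ℕ := bif Nat.blt j 38 then [nat_lit 63, nat_lit 3, nat_lit 1, nat_lit 0, nat_lit 2, nat_lit 0, nat_lit 3, nat_lit 1, nat_lit 0, nat_lit 2, nat_lit 0, nat_lit 3, nat_lit 1, nat_lit 0, nat_lit 2, nat_lit 0, nat_lit 3, nat_lit 1, nat_lit 0, nat_lit 2, nat_lit 0] else (Wt_38_40 j)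
def Wt_35_40 (j : ℕ) : List ℕ := bif Nat.blt j 37 then (Wt_35_37 j) else (Wt_37_40 j)
def Wt_30_40 (j : ℕ) : List ℕ := bif Nat.blt j 35 then (Wt_30_35 j) else (Wt_35_40 j)
def Wt_20_40 (j : ℕ) : List ℕ := bif Nat.blt j 30 then (Wt_20_30 j) else (Wt_30_40 j)
def Wt_0_40 (j : ℕ) : List ℕ := bif Nat.blt j 20 then (Wt_0_20 j) else (Wt_20_40 j)
def Wt_40_42 (j : ℕ) : List ℕ := bif Nat.blt j 41 then [nat_lit 1, nat_lit 3, nat_lit 2, nat_lit 0, nat_lit 1, nat_lit 3, nat_lit 1, nat_lit 3, nat_lit 2, nat_lit 0, nat_lit 1, nat_lit 3, nat_lit 1, nat_lit 3, nat_lit 2, nat_lit 0, nat_lit 1, nat_lit 3] else [nat_lit 3, nat_lit 1, nat_lit 0, nat_lit 2, nat_lit 3, nat_lit 1, nat_lit 3, nat_lit 1, nat_lit 0, nat_lit 2, nat_lit 3, nat_lit 1, nat_lit 3, nat_lit 1, nat_lit 0, nat_lit 2, nat_lit 3, nat_lit 1]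
def Wt_43_45 (j : ℕ) : List ℕ := bif Nat.blt j 44 then [nat_lit 0, nat_lit 2, nat_lit 1, nat_lit 2, nat_lit 1, nat_lit 0, nat_lit 2, nat_lit 1, nat_lit 2, nat_lit 1, nat_lit 0, nat_lit 2, nat_lit 1, nat_lit 2, nat_lit 1, nat_lit 0, nat_lit 2, nat_lit 1, nat_lit 2, nat_lit 1, nat_lit 0, nat_lit 2, nat_lit 1, nat_lit 2, nat_lit 1] else [nat_lit 3, nat_lit 1, nat_lit 0, nat_lit 1, nat_lit 2, nat_lit 0, nat_lit 1, nat_lit 3, nat_lit 1, nat_lit 0, nat_lit 1, nat_lit 2, nat_lit 0, nat_lit 1, nat_lit 3, nat_lit 1, nat_lit 0, nat_lit 1, nat_lit 2, nat_lit 0, nat_lit 1]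
def Wt_42_45 (j : ℕ) : List ℕ := bif Nat.blt j 43 then [nat_lit 1, nat_lit 0, nat_lit 2, nat_lit 1, nat_lit 2, nat_lit 1, nat_lit 0, nat_lit 2, nat_lit 1, nat_lit 2, nat_lit 1, nat_lit 0, nat_lit 2, nat_lit 1, nat_lit 2, nat_lit 1, nat_lit 0, nat_lit 2, nat_lit 1, nat_lit 2, nat_lit 1, nat_lit 0, nat_lit 2, nat_lit 1, nat_lit 2] else (Wt_43_45 j)
def Wt_40_45 (j : ℕ) : List ℕ := bif Nat.blt j 42 then (Wt_40_42 j) else (Wt_42_45 j)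
def Wt_45_47 (j : ℕ) : List ℕ := bif Nat.blt j 46 then [nat_lit 1, nat_lit 2, nat_lit 0, nat_lit 1, nat_lit 2, nat_lit 3, nat_lit 2, nat_lit 1, nat_lit 2, nat_lit 0, nat_lit 1, nat_lit 2, nat_lit 3, nat_lit 2, nat_lit 1, nat_lit 2, nat_lit 0, nat_lit 1, nat_lit 2, nat_lit 3, nat_lit 2] else [nat_lit 1, nat_lit 0, nat_lit 1, nat_lit 3, nat_lit 1, nat_lit 0, nat_lit 2, nat_lit 1, nat_lit 0, nat_lit 1, nat_lit 3, nat_lit 1, nat_lit 0, nat_lit 2, nat_lit 1, nat_lit 0, nat_lit 1, nat_lit 3, nat_lit 1, nat_lit 0, nat_lit 2]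
def Wt_48_50 (j : ℕ) : List ℕ := bif Nat.blt j 49 then [nat_lit 2, nat_lit 1, nat_lit 0, nat_lit 1, nat_lit 3, nat_lit 1, nat_lit 0, nat_lit 2, nat_lit 1, nat_lit 0, nat_lit 1, nat_lit 3, nat_lit 1, nat_lit 0, nat_lit 2, nat_lit 1, nat_lit 0, nat_lit 1, nat_lit 3, nat_lit 1, nat_lit 0] else [nat_lit 1, nat_lit 3, nat_lit 1, nat_lit 2, nat_lit 0, nat_lit 2, nat_lit 1, nat_lit 3, nat_lit 1, nat_lit 2, nat_lit 0, nat_lit 2, nat_lit 1, nat_lit 3, nat_lit 1, nat_lit 2, nat_lit 0, nat_lit 2]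
def Wt_47_50 (j : ℕ) : List ℕ := bif Nat.blt j 48 then [nat_lit 0, nat_lit 2, nat_lit 1, nat_lit 0, nat_lit 1, nat_lit 3, nat_lit 1, nat_lit 0, nat_lit 2, nat_lit 1, nat_lit 0, nat_lit 1, nat_lit 3, nat_lit 1, nat_lit 0, nat_lit 2, nat_lit 1, nat_lit 0, nat_lit 1, nat_lit 3, nat_lit 1] else (Wt_48_50 j)
def Wt_45_50 (j : ℕ) : List ℕ := bif Nat.blt j 47 then (Wt_45_47 j) else (Wt_47_50 j)
def Wt_40_50 (j : ℕ) : List ℕ := bif Nat.blt j 45 then (Wt_40_45 j) else (Wt_45_50 j)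
def Wt_50_52 (j : ℕ) : List ℕ := bif Nat.blt j 51 then [nat_lit 63, nat_lit 1, nat_lit 2, nat_lit 0, nat_lit 1, nat_lit 2, nat_lit 1, nat_lit 2, nat_lit 0, nat_lit 1, nat_lit 2, nat_lit 1, nat_lit 2, nat_lit 0, nat_lit 1, nat_lit 2, nat_lit 1, nat_lit 2, nat_lit 0, nat_lit 1, nat_lit 2, nat_lit 1, nat_lit 2, nat_lit 0, nat_lit 1, nat_lit 2] else [nat_lit 63, nat_lit 1, nat_lit 0, nat_lit 2, nat_lit 1, nat_lit 0, nat_lit 1, nat_lit 3, nat_lit 1, nat_lit 0, nat_lit 2, nat_lit 1, nat_lit 0, nat_lit 1, nat_lit 3, nat_lit 1, nat_lit 0, nat_lit 2, nat_lit 1, nat_lit 0, nat_lit 1, nat_lit 3]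
def Wt_53_55 (j : ℕ) : List ℕ := bif Nat.blt j 54 then [nat_lit 0, nat_lit 1, nat_lit 3, nat_lit 1, nat_lit 3, nat_lit 2, nat_lit 0, nat_lit 1, nat_lit 3, nat_lit 1, nat_lit 3, nat_lit 2, nat_lit 0, nat_lit 1, nat_lit 3, nat_lit 1, nat_lit 3, nat_lit 2] else [nat_lit 63, nat_lit 2, nat_lit 1, nat_lit 2, nat_lit 0, nat_lit 1, nat_lit 2, nat_lit 1, nat_lit 2, nat_lit 0, nat_lit 1, nat_lit 2, nat_lit 1, nat_lit 2, nat_lit 0, nat_lit 1, nat_lit 2, nat_lit 1, nat_lit 2, nat_lit 0, nat_lit 1, nat_lit 2, nat_lit 1, nat_lit 2, nat_lit 0, nat_lit 1]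
def Wt_52_55 (j : ℕ) : List ℕ := bif Nat.blt j 53 then [nat_lit 63, nat_lit 3, nat_lit 63, nat_lit 3] else (Wt_53_55 j)
def Wt_50_55 (j : ℕ) : List ℕ := bif Nat.blt j 52 then (Wt_50_52 j) else (Wt_52_55 j)
def Wt_55_57 (j : ℕ) : List ℕ := bif Nat.blt j 56 then [nat_lit 0, nat_lit 1, nat_lit 2, nat_lit 1, nat_lit 2, nat_lit 0, nat_lit 1, nat_lit 2, nat_lit 1, nat_lit 2, nat_lit 0, nat_lit 1, nat_lit 2, nat_lit 1, nat_lit 2, nat_lit 0, nat_lit 1, nat_lit 2, nat_lit 1, nat_lit 2, nat_lit 0, nat_lit 1, nat_lit 2, nat_lit 1, nat_lit 2] else [nat_lit 63, nat_lit 0, nat_lit 2, nat_lit 0, nat_lit 2]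
def Wt_58_60 (j : ℕ) : List ℕ := bif Nat.blt j 59 then [nat_lit 2, nat_lit 3, nat_lit 2, nat_lit 1, nat_lit 2, nat_lit 0, nat_lit 1, nat_lit 2, nat_lit 3, nat_lit 2, nat_lit 1, nat_lit 2, nat_lit 0, nat_lit 1, nat_lit 2, nat_lit 3, nat_lit 2, nat_lit 1, nat_lit 2, nat_lit 0, nat_lit 1] else [nat_lit 3, nat_lit 0, nat_lit 2, nat_lit 0, nat_lit 1, nat_lit 3, nat_lit 0, nat_lit 2, nat_lit 0, nat_lit 1, nat_lit 3, nat_lit 0, nat_lit 2, nat_lit 0, nat_lit 1, nat_lit 3, nat_lit 0, nat_lit 2, nat_lit 0, nat_lit 1]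
def Wt_57_60 (j : ℕ) : List ℕ := bif Nat.blt j 58 then [nat_lit 1, nat_lit 0, nat_lit 2, nat_lit 1, nat_lit 0, nat_lit 1, nat_lit 3, nat_lit 1, nat_lit 0, nat_lit 2, nat_lit 1, nat_lit 0, nat_lit 1, nat_lit 3, nat_lit 1, nat_lit 0, nat_lit 2, nat_lit 1, nat_lit 0, nat_lit 1, nat_lit 3] else (Wt_58_60 j)
def Wt_55_60 (j : ℕ) : List ℕ := bif Nat.blt j 57 then (Wt_55_57 j) else (Wt_57_60 j)
def Wt_50_60 (j : ℕ) : List ℕ := bif Nat.blt j 55 then (Wt_50_55 j) else (Wt_55_60 j)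
def Wt_40_60 (j : ℕ) : List ℕ := bif Nat.blt j 50 then (Wt_40_50 j) else (Wt_50_60 j)
def Wt_60_62 (j : ℕ) : List ℕ := bif Nat.blt j 61 then [nat_lit 63, nat_lit 2, nat_lit 1, nat_lit 0, nat_lit 1, nat_lit 3, nat_lit 1, nat_lit 0, nat_lit 2, nat_lit 1, nat_lit 0, nat_lit 1, nat_lit 3, nat_lit 1, nat_lit 0, nat_lit 2, nat_lit 1, nat_lit 0, nat_lit 1, nat_lit 3, nat_lit 1, nat_lit 0] else [nat_lit 63, nat_lit 2, nat_lit 1, nat_lit 2, nat_lit 1, nat_lit 2, nat_lit 1]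
def Wt_63_65 (j : ℕ) : List ℕ := bif Nat.blt j 64 then [nat_lit 2, nat_lit 0, nat_lit 1, nat_lit 3, nat_lit 1, nat_lit 3, nat_lit 2, nat_lit 0, nat_lit 1, nat_lit 3, nat_lit 1, nat_lit 3, nat_lit 2, nat_lit 0, nat_lit 1, nat_lit 3, nat_lit 1, nat_lit 3] else [nat_lit 2, nat_lit 0, nat_lit 1, nat_lit 3, nat_lit 1, nat_lit 0, nat_lit 1, nat_lit 2, nat_lit 0, nat_lit 1, nat_lit 3, nat_lit 1, nat_lit 0, nat_lit 1, nat_lit 2, nat_lit 0, nat_lit 1, nat_lit 3, nat_lit 1, nat_lit 0, nat_lit 1]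
def Wt_62_65 (j : ℕ) : List ℕ := bif Nat.blt j 63 then [nat_lit 3, nat_lit 2, nat_lit 0, nat_lit 1, nat_lit 3, nat_lit 1, nat_lit 3, nat_lit 2, nat_lit 0, nat_lit 1, nat_lit 3, nat_lit 1, nat_lit 3, nat_lit 2, nat_lit 0, nat_lit 1, nat_lit 3, nat_lit 1] else (Wt_63_65 j)
def Wt_60_65 (j : ℕ) : List ℕ := bif Nat.blt j 62 then (Wt_60_62 j) else (Wt_62_65 j)
def Wt_65_67 (j : ℕ) : List ℕ := bif Nat.blt j 66 then [nat_lit 0, nat_lit 2, nat_lit 3, nat_lit 0, nat_lit 2, nat_lit 1, nat_lit 3, nat_lit 0, nat_lit 2, nat_lit 3, nat_lit 0, nat_lit 2, nat_lit 1, nat_lit 3, nat_lit 0, nat_lit 2, nat_lit 3, nat_lit 0, nat_lit 2, nat_lit 1, nat_lit 3] else [nat_lit 63, nat_lit 1, nat_lit 2, nat_lit 1, nat_lit 2, nat_lit 1, nat_lit 2]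
def Wt_68_70 (j : ℕ) : List ℕ := bif Nat.blt j 69 then [nat_lit 3, nat_lit 2, nat_lit 0, nat_lit 2, nat_lit 1, nat_lit 3, nat_lit 2, nat_lit 0, nat_lit 2, nat_lit 1, nat_lit 3, nat_lit 2, nat_lit 0, nat_lit 2, nat_lit 1, nat_lit 3, nat_lit 2, nat_lit 0, nat_lit 2, nat_lit 1] else [nat_lit 1, nat_lit 2, nat_lit 3, nat_lit 2, nat_lit 1, nat_lit 2, nat_lit 0, nat_lit 1, nat_lit 2, nat_lit 3, nat_lit 2, nat_lit 1, nat_lit 2, nat_lit 0, nat_lit 1, nat_lit 2, nat_lit 3, nat_lit 2, nat_lit 1, nat_lit 2, nat_lit 0]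
def Wt_67_70 (j : ℕ) : List ℕ := bif Nat.blt j 68 then [nat_lit 1, nat_lit 3, nat_lit 1, nat_lit 0, nat_lit 1, nat_lit 2, nat_lit 0, nat_lit 1, nat_lit 3, nat_lit 1, nat_lit 0, nat_lit 1, nat_lit 2, nat_lit 0, nat_lit 1, nat_lit 3, nat_lit 1, nat_lit 0, nat_lit 1, nat_lit 2, nat_lit 0] else (Wt_68_70 j)
def Wt_65_70 (j : ℕ) : List ℕ := bif Nat.blt j 67 then (Wt_65_67 j) else (Wt_67_70 j)
def Wt_60_70 (j : ℕ) : List ℕ := bif Nat.blt j 65 then (Wt_60_65 j) else (Wt_65_70 j)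
def Wt_70_72 (j : ℕ) : List ℕ := bif Nat.blt j 71 then [nat_lit 1, nat_lit 0, nat_lit 1, nat_lit 2, nat_lit 0, nat_lit 1, nat_lit 3, nat_lit 1, nat_lit 0, nat_lit 1, nat_lit 2, nat_lit 0, nat_lit 1, nat_lit 3, nat_lit 1, nat_lit 0, nat_lit 1, nat_lit 2, nat_lit 0, nat_lit 1, nat_lit 3] else [nat_lit 63, nat_lit 1, nat_lit 3, nat_lit 1, nat_lit 2, nat_lit 0, nat_lit 2, nat_lit 1, nat_lit 3, nat_lit 1, nat_lit 2, nat_lit 0, nat_lit 2, nat_lit 1, nat_lit 3, nat_lit 1, nat_lit 2, nat_lit 0, nat_lit 2]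
def Wt_73_75 (j : ℕ) : List ℕ := bif Nat.blt j 74 then [nat_lit 2, nat_lit 1, nat_lit 2, nat_lit 0, nat_lit 1, nat_lit 2, nat_lit 1, nat_lit 2, nat_lit 0, nat_lit 1, nat_lit 2, nat_lit 1, nat_lit 2, nat_lit 0, nat_lit 1, nat_lit 2, nat_lit 1, nat_lit 2, nat_lit 0, nat_lit 1, nat_lit 2, nat_lit 1, nat_lit 2, nat_lit 0, nat_lit 1] else [nat_lit 1, nat_lit 3, nat_lit 0, nat_lit 2, nat_lit 3, nat_lit 0, nat_lit 2, nat_lit 1, nat_lit 3, nat_lit 0, nat_lit 2, nat_lit 3, nat_lit 0, nat_lit 2, nat_lit 1, nat_lit 3, nat_lit 0, nat_lit 2, nat_lit 3, nat_lit 0, nat_lit 2]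
def Wt_72_75 (j : ℕ) : List ℕ := bif Nat.blt j 73 then [nat_lit 1, nat_lit 2, nat_lit 1, nat_lit 0, nat_lit 2, nat_lit 1, nat_lit 2, nat_lit 1, nat_lit 0, nat_lit 2, nat_lit 1, nat_lit 2, nat_lit 1, nat_lit 0, nat_lit 2, nat_lit 1, nat_lit 2, nat_lit 1, nat_lit 0, nat_lit 2, nat_lit 1, nat_lit 2, nat_lit 1, nat_lit 0, nat_lit 2] else (Wt_73_75 j)
def Wt_70_75 (j : ℕ) : List ℕ := bif Nat.blt j 72 then (Wt_70_72 j) else (Wt_72_75 j)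
def Wt_76_78 (j : ℕ) : List ℕ := bif Nat.blt j 77 then [nat_lit 63, nat_lit 2, nat_lit 63, nat_lit 2] else [nat_lit 2, nat_lit 1, nat_lit 2, nat_lit 0, nat_lit 1, nat_lit 2, nat_lit 3, nat_lit 2, nat_lit 1, nat_lit 2, nat_lit 0, nat_lit 1, nat_lit 2, nat_lit 3, nat_lit 2, nat_lit 1, nat_lit 2, nat_lit 0, nat_lit 1, nat_lit 2, nat_lit 3]
def Wt_75_78 (j : ℕ) : List ℕ := bif Nat.blt j 76 then [nat_lit 63, nat_lit 1, nat_lit 0, nat_lit 1, nat_lit 0, nat_lit 1, nat_lit 0, nat_lit 1, nat_lit 0, nat_lit 1, nat_lit 0] else (Wt_76_78 j)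
def Wt_79_81 (j : ℕ) : List ℕ := bif Nat.blt j 80 then [nat_lit 3, nat_lit 1, nat_lit 0, nat_lit 2, nat_lit 0, nat_lit 3, nat_lit 1, nat_lit 0, nat_lit 2, nat_lit 0, nat_lit 3, nat_lit 1, nat_lit 0, nat_lit 2, nat_lit 0, nat_lit 3, nat_lit 1, nat_lit 0, nat_lit 2, nat_lit 0] else [nat_lit 1, nat_lit 2, nat_lit 0, nat_lit 1, nat_lit 2, nat_lit 1, nat_lit 2, nat_lit 0, nat_lit 1, nat_lit 2, nat_lit 1, nat_lit 2, nat_lit 0, nat_lit 1, nat_lit 2, nat_lit 1, nat_lit 2, nat_lit 0, nat_lit 1, nat_lit 2, nat_lit 1, nat_lit 2, nat_lit 0, nat_lit 1, nat_lit 2]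
def Wt_78_81 (j : ℕ) : List ℕ := bif Nat.blt j 79 then [nat_lit 0, nat_lit 1, nat_lit 2, nat_lit 0, nat_lit 1, nat_lit 3, nat_lit 1, nat_lit 0, nat_lit 1, nat_lit 2, nat_lit 0, nat_lit 1, nat_lit 3, nat_lit 1, nat_lit 0, nat_lit 1, nat_lit 2, nat_lit 0, nat_lit 1, nat_lit 3, nat_lit 1] else (Wt_79_81 j)
def Wt_75_81 (j : ℕ) : List ℕ := bif Nat.blt j 78 then (Wt_75_78 j) else (Wt_78_81 j)
def Wt_70_81 (j : ℕ) : List ℕ := bif Nat.blt j 75 then (Wt_70_75 j) else (Wt_75_81 j)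
def Wt_60_81 (j : ℕ) : List ℕ := bif Nat.blt j 70 then (Wt_60_70 j) else (Wt_70_81 j)
def Wt_40_81 (j : ℕ) : List ℕ := bif Nat.blt j 60 then (Wt_40_60 j) else (Wt_60_81 j)
def Wt_0_81 (j : ℕ) : List ℕ := bif Nat.blt j 40 then (Wt_0_40 j) else (Wt_40_81 j)
def Wt_81_83 (j : ℕ) : List ℕ := bif Nat.blt j 82 then [nat_lit 0, nat_lit 3, nat_lit 2, nat_lit 0, nat_lit 3, nat_lit 1, nat_lit 2, nat_lit 0, nat_lit 3, nat_lit 2, nat_lit 0, nat_lit 3, nat_lit 1, nat_lit 2, nat_lit 0, nat_lit 3, nat_lit 2, nat_lit 0, nat_lit 3, nat_lit 1, nat_lit 2] else [nat_lit 1, nat_lit 0, nat_lit 2, nat_lit 3, nat_lit 1, nat_lit 3, nat_lit 1, nat_lit 0, nat_lit 2, nat_lit 3, nat_lit 1, nat_lit 3, nat_lit 1, nat_lit 0, nat_lit 2, nat_lit 3, nat_lit 1, nat_lit 3]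
def Wt_84_86 (j : ℕ) : List ℕ := bif Nat.blt j 85 then [nat_lit 63, nat_lit 0, nat_lit 2, nat_lit 0, nat_lit 1, nat_lit 3, nat_lit 0, nat_lit 2, nat_lit 0, nat_lit 1, nat_lit 3, nat_lit 0, nat_lit 2, nat_lit 0, nat_lit 1, nat_lit 3, nat_lit 0, nat_lit 2, nat_lit 0, nat_lit 1, nat_lit 3] else [nat_lit 63, nat_lit 1, nat_lit 2, nat_lit 1, nat_lit 2, nat_lit 0, nat_lit 1, nat_lit 2, nat_lit 1, nat_lit 2, nat_lit 0, nat_lit 1, nat_lit 2, nat_lit 1, nat_lit 2, nat_lit 0, nat_lit 1, nat_lit 2, nat_lit 1, nat_lit 2, nat_lit 0, nat_lit 1, nat_lit 2, nat_lit 1, nat_lit 2, nat_lit 0]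
def Wt_83_86 (j : ℕ) : List ℕ := bif Nat.blt j 84 then [nat_lit 63, nat_lit 3, nat_lit 1, nat_lit 0, nat_lit 2, nat_lit 1, nat_lit 0, nat_lit 1, nat_lit 3, nat_lit 1, nat_lit 0, nat_lit 2, nat_lit 1, nat_lit 0, nat_lit 1, nat_lit 3, nat_lit 1, nat_lit 0, nat_lit 2, nat_lit 1, nat_lit 0, nat_lit 1] else (Wt_84_86 j)
def Wt_81_86 (j : ℕ) : List ℕ := bif Nat.blt j 83 then (Wt_81_83 j) else (Wt_83_86 j)
def Wt_86_88 (j : ℕ) : List ℕ := bif Nat.blt j 87 then [nat_lit 63, nat_lit 3, nat_lit 1, nat_lit 2, nat_lit 0, nat_lit 2, nat_lit 1, nat_lit 3, nat_lit 1, nat_lit 2, nat_lit 0, nat_lit 2, nat_lit 1, nat_lit 3, nat_lit 1, nat_lit 2, nat_lit 0, nat_lit 2, nat_lit 1] else [nat_lit 63, nat_lit 0, nat_lit 2, nat_lit 0, nat_lit 3, nat_lit 1, nat_lit 0, nat_lit 2, nat_lit 0, nat_lit 3, nat_lit 1, nat_lit 0, nat_lit 2, nat_lit 0, nat_lit 3, nat_lit 1, nat_lit 0,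 nat_lit 2, nat_lit 0, nat_lit 3, nat_lit 1]
def Wt_89_91 (j : ℕ) : List ℕ := bif Nat.blt j 90 then [nat_lit 63, nat_lit 0, nat_lit 2, nat_lit 1, nat_lit 3, nat_lit 2, nat_lit 0, nat_lit 2, nat_lit 1, nat_lit 3, nat_lit 2, nat_lit 0, nat_lit 2, nat_lit 1, nat_lit 3, nat_lit 2, nat_lit 0, nat_lit 2, nat_lit 1, nat_lit 3, nat_lit 2] else [nat_lit 63, nat_lit 2, nat_lit 3, nat_lit 1, nat_lit 3, nat_lit 1, nat_lit 0, nat_lit 2, nat_lit 3, nat_lit 1, nat_lit 3, nat_lit 1, nat_lit 0, nat_lit 2, nat_lit 3, nat_lit 1, nat_lit 3, nat_lit 1, nat_lit 0]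
def Wt_88_91 (j : ℕ) : List ℕ := bif Nat.blt j 89 then [nat_lit 63, nat_lit 2, nat_lit 3, nat_lit 0, nat_lit 2, nat_lit 1, nat_lit 3, nat_lit 0, nat_lit 2, nat_lit 3, nat_lit 0, nat_lit 2, nat_lit 1, nat_lit 3, nat_lit 0, nat_lit 2, nat_lit 3, nat_lit 0, nat_lit 2, nat_lit 1, nat_lit 3, nat_lit 0] else (Wt_89_91 j)
def Wt_86_91 (j : ℕ) : List ℕ := bif Nat.blt j 88 then (Wt_86_88 j) else (Wt_88_91 j)
def Wt_81_91 (j : ℕ) : List ℕ := bif Nat.blt j 86 then (Wt_81_86 j) else (Wt_86_91 j)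
def Wt_91_93 (j : ℕ) : List ℕ := bif Nat.blt j 92 then [nat_lit 63, nat_lit 2, nat_lit 1, nat_lit 3, nat_lit 1, nat_lit 2, nat_lit 0, nat_lit 2, nat_lit 1, nat_lit 3, nat_lit 1, nat_lit 2, nat_lit 0, nat_lit 2, nat_lit 1, nat_lit 3, nat_lit 1, nat_lit 2, nat_lit 0] else [nat_lit 63, nat_lit 2, nat_lit 0, nat_lit 2, nat_lit 1, nat_lit 3, nat_lit 2, nat_lit 0, nat_lit 2, nat_lit 1, nat_lit 3, nat_lit 2, nat_lit 0, nat_lit 2, nat_lit 1, nat_lit 3, nat_lit 2, nat_lit 0, nat_lit 2, nat_lit 1, nat_lit 3]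
def Wt_94_96 (j : ℕ) : List ℕ := bif Nat.blt j 95 then [nat_lit 63, nat_lit 2, nat_lit 0, nat_lit 3, nat_lit 1, nat_lit 2, nat_lit 0, nat_lit 3, nat_lit 2, nat_lit 0, nat_lit 3, nat_lit 1, nat_lit 2, nat_lit 0, nat_lit 3, nat_lit 2, nat_lit 0, nat_lit 3, nat_lit 1, nat_lit 2, nat_lit 0, nat_lit 3] else [nat_lit 63, nat_lit 0, nat_lit 2, nat_lit 1, nat_lit 3, nat_lit 1, nat_lit 2, nat_lit 0, nat_lit 2, nat_lit 1, nat_lit 3, nat_lit 1, nat_lit 2, nat_lit 0, nat_lit 2, nat_lit 1, nat_lit 3, nat_lit 1, nat_lit 2]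
def Wt_93_96 (j : ℕ) : List ℕ := bif Nat.blt j 94 then [nat_lit 1, nat_lit 2, nat_lit 0, nat_lit 2, nat_lit 3, nat_lit 1, nat_lit 2, nat_lit 0, nat_lit 2, nat_lit 3, nat_lit 1, nat_lit 2, nat_lit 0, nat_lit 2, nat_lit 3, nat_lit 1, nat_lit 2, nat_lit 0, nat_lit 2, nat_lit 3] else (Wt_94_96 j)
def Wt_91_96 (j : ℕ) : List ℕ := bif Nat.blt j 93 then (Wt_91_93 j) else (Wt_93_96 j)
def Wt_96_98 (j : ℕ) : List ℕ := bif Nat.blt j 97 then [nat_lit 63, nat_lit 2, nat_lit 0, nat_lit 1, nat_lit 2, nat_lit 3, nat_lit 2, nat_lit 1, nat_lit 2, nat_lit 0, nat_lit 1, nat_lit 2, nat_lit 3, nat_lit 2, nat_lit 1, nat_lit 2, nat_lit 0, nat_lit 1, nat_lit 2, nat_lit 3, nat_lit 2, nat_lit 1] else [nat_lit 63, nat_lit 3, nat_lit 1, nat_lit 0, nat_lit 1, nat_lit 2, nat_lit 0, nat_lit 1, nat_lit 3, nat_lit 1, nat_lit 0, nat_lit 1, nat_lit 2, nat_lit 0, nat_lit 1, nat_lit 3,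 nat_lit 1, nat_lit 0, nat_lit 1, nat_lit 2, nat_lit 0, nat_lit 1]
def Wt_99_101 (j : ℕ) : List ℕ := bif Nat.blt j 100 then [nat_lit 2, nat_lit 1, nat_lit 3, nat_lit 1, nat_lit 2, nat_lit 0, nat_lit 2, nat_lit 1, nat_lit 3, nat_lit 1, nat_lit 2, nat_lit 0, nat_lit 2, nat_lit 1, nat_lit 3, nat_lit 1, nat_lit 2, nat_lit 0] else [nat_lit 3, nat_lit 1, nat_lit 3, nat_lit 2, nat_lit 0, nat_lit 1, nat_lit 3, nat_lit 1, nat_lit 3, nat_lit 2, nat_lit 0, nat_lit 1, nat_lit 3, nat_lit 1, nat_lit 3, nat_lit 2, nat_lit 0, nat_lit 1]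
def Wt_98_101 (j : ℕ) : List ℕ := bif Nat.blt j 99 then [nat_lit 1, nat_lit 3, nat_lit 2, nat_lit 0, nat_lit 2, nat_lit 1, nat_lit 3, nat_lit 2, nat_lit 0, nat_lit 2, nat_lit 1, nat_lit 3, nat_lit 2, nat_lit 0, nat_lit 2, nat_lit 1, nat_lit 3, nat_lit 2, nat_lit 0, nat_lit 2] else (Wt_99_101 j)
def Wt_96_101 (j : ℕ) : List ℕ := bif Nat.blt j 98 then (Wt_96_98 j) else (Wt_98_101 j)
def Wt_91_101 (j : ℕ) : List ℕ := bif Nat.blt j 96 then (Wt_91_96 j) else (Wt_96_101 j)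
def Wt_81_101 (j : ℕ) : List ℕ := bif Nat.blt j 91 then (Wt_81_91 j) else (Wt_91_101 j)
def Wt_101_103 (j : ℕ) : List ℕ := bif Nat.blt j 102 then [nat_lit 2, nat_lit 1, nat_lit 2, nat_lit 1, nat_lit 0, nat_lit 2, nat_lit 1, nat_lit 2, nat_lit 1, nat_lit 0, nat_lit 2, nat_lit 1, nat_lit 2, nat_lit 1, nat_lit 0, nat_lit 2, nat_lit 1, nat_lit 2, nat_lit 1, nat_lit 0, nat_lit 2, nat_lit 1, nat_lit 2, nat_lit 1, nat_lit 0] else [nat_lit 63, nat_lit 1, nat_lit 3, nat_lit 1, nat_lit 0, nat_lit 1, nat_lit 2, nat_lit 0, nat_lit 1, nat_lit 3, nat_lit 1, nat_lit 0, nat_lit 1, nat_lit 2, nat_lit 0, nat_lit 1, nat_lit 3, nat_lit 1, nat_lit 0, nat_lit 1, nat_lit 2, nat_lit 0]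
def Wt_104_106 (j : ℕ) : List ℕ := bif Nat.blt j 105 then [nat_lit 3, nat_lit 0, nat_lit 2, nat_lit 3, nat_lit 0, nat_lit 2, nat_lit 1, nat_lit 3, nat_lit 0, nat_lit 2, nat_lit 3, nat_lit 0, nat_lit 2, nat_lit 1, nat_lit 3, nat_lit 0, nat_lit 2, nat_lit 3, nat_lit 0, nat_lit 2, nat_lit 1] else [nat_lit 63, nat_lit 1, nat_lit 3, nat_lit 1, nat_lit 0, nat_lit 2, nat_lit 1, nat_lit 0, nat_lit 1, nat_lit 3, nat_lit 1, nat_lit 0, nat_lit 2, nat_lit 1, nat_lit 0, nat_lit 1, nat_lit 3, nat_lit 1, nat_lit 0, nat_lit 2, nat_lit 1, nat_lit 0]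
def Wt_103_106 (j : ℕ) : List ℕ := bif Nat.blt j 104 then [nat_lit 63, nat_lit 2, nat_lit 1, nat_lit 0, nat_lit 2, nat_lit 1, nat_lit 2, nat_lit 3, nat_lit 2, nat_lit 1, nat_lit 0, nat_lit 2, nat_lit 1, nat_lit 2, nat_lit 3, nat_lit 2, nat_lit 1, nat_lit 0, nat_lit 2, nat_lit 1, nat_lit 2, nat_lit 3] else (Wt_104_106 j)
def Wt_101_106 (j : ℕ) : List ℕ := bif Nat.blt j 103 then (Wt_101_103 j) else (Wt_103_106 j)
def Wt_106_108 (j : ℕ) : List ℕ := bif Nat.blt j 107 then [nat_lit 63, nat_lit 2, nat_lit 0, nat_lit 1, nat_lit 3, nat_lit 0, nat_lit 2, nat_lit 0, nat_lit 1, nat_lit 3, nat_lit 0, nat_lit 2, nat_lit 0, nat_lit 1, nat_lit 3, nat_lit 0, nat_lit 2, nat_lit 0, nat_lit 1, nat_lit 3, nat_lit 0] else [nat_lit 3, nat_lit 1, nat_lit 3, nat_lit 1, nat_lit 0, nat_lit 2, nat_lit 3, nat_lit 1, nat_lit 3, nat_lit 1, nat_lit 0, nat_lit 2, nat_lit 3, nat_lit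 1, nat_lit 3, nat_lit 1, nat_lit 0, nat_lit 2]
def Wt_109_111 (j : ℕ) : List ℕ := bif Nat.blt j 110 then [nat_lit 63, nat_lit 1, nat_lit 0, nat_lit 1, nat_lit 2, nat_lit 0, nat_lit 1, nat_lit 3, nat_lit 1, nat_lit 0, nat_lit 1, nat_lit 2, nat_lit 0, nat_lit 1, nat_lit 3, nat_lit 1, nat_lit 0, nat_lit 1, nat_lit 2, nat_lit 0, nat_lit 1, nat_lit 3] else [nat_lit 0, nat_lit 1, nat_lit 3, nat_lit 1, nat_lit 0, nat_lit 2, nat_lit 1, nat_lit 0, nat_lit 1, nat_lit 3, nat_lit 1, nat_lit 0, nat_lit 2, nat_lit 1, nat_lit 0, nat_lit 1, nat_lit 3, nat_lit 1, nat_lit 0, nat_lit 2, nat_lit 1]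
def Wt_108_111 (j : ℕ) : List ℕ := bif Nat.blt j 109 then [nat_lit 63, nat_lit 0, nat_lit 2, nat_lit 1, nat_lit 2, nat_lit 1, nat_lit 0, nat_lit 2, nat_lit 1, nat_lit 2, nat_lit 1, nat_lit 0, nat_lit 2, nat_lit 1, nat_lit 2, nat_lit 1, nat_lit 0, nat_lit 2, nat_lit 1, nat_lit 2, nat_lit 1, nat_lit 0, nat_lit 2, nat_lit 1, nat_lit 2, nat_lit 1] else (Wt_109_111 j)
def Wt_106_111 (j : ℕ) : List ℕ := bif Nat.blt j 108 then (Wt_106_108 j) else (Wt_108_111 j)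
def Wt_101_111 (j : ℕ) : List ℕ := bif Nat.blt j 106 then (Wt_101_106 j) else (Wt_106_111 j)
def Wt_111_113 (j : ℕ) : List ℕ := bif Nat.blt j 112 then [nat_lit 63, nat_lit 3, nat_lit 1, nat_lit 2, nat_lit 0, nat_lit 3, nat_lit 2, nat_lit 0, nat_lit 3, nat_lit 1, nat_lit 2, nat_lit 0, nat_lit 3, nat_lit 2, nat_lit 0, nat_lit 3, nat_lit 1, nat_lit 2, nat_lit 0, nat_lit 3, nat_lit 2, nat_lit 0] else [nat_lit 63, nat_lit 0, nat_lit 1, nat_lit 0, nat_lit 1, nat_lit 0, nat_lit 1, nat_lit 0, nat_lit 1, nat_lit 0, nat_lit 1]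
def Wt_114_116 (j : ℕ) : List ℕ := bif Nat.blt j 115 then [nat_lit 63, nat_lit 2, nat_lit 3, nat_lit 2, nat_lit 1, nat_lit 2, nat_lit 0, nat_lit 1, nat_lit 2, nat_lit 3, nat_lit 2, nat_lit 1, nat_lit 2, nat_lit 0, nat_lit 1, nat_lit 2, nat_lit 3, nat_lit 2, nat_lit 1, nat_lit 2, nat_lit 0, nat_lit 1] else [nat_lit 3, nat_lit 2, nat_lit 0, nat_lit 3, nat_lit 1, nat_lit 2, nat_lit 0, nat_lit 3, nat_lit 2, nat_lit 0, nat_lit 3, nat_lit 1, nat_lit 2, nat_lit 0, nat_lit 3, nat_lit 2, nat_lit 0, nat_lit 3, nat_lit 1, nat_lit 2, nat_lit 0]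
def Wt_113_116 (j : ℕ) : List ℕ := bif Nat.blt j 114 then [nat_lit 63, nat_lit 3, nat_lit 0, nat_lit 2, nat_lit 0, nat_lit 1, nat_lit 3, nat_lit 0, nat_lit 2, nat_lit 0, nat_lit 1, nat_lit 3, nat_lit 0, nat_lit 2, nat_lit 0, nat_lit 1, nat_lit 3, nat_lit 0, nat_lit 2, nat_lit 0, nat_lit 1] else (Wt_114_116 j)
def Wt_111_116 (j : ℕ) : List ℕ := bif Nat.blt j 113 then (Wt_111_113 j) else (Wt_113_116 j)
def Wt_117_119 (j : ℕ) : List ℕ := bif Nat.blt j 118 then [nat_lit 63, nat_lit 1, nat_lit 2, nat_lit 0, nat_lit 1, nat_lit 3, nat_lit 1, nat_lit 0, nat_lit 1, nat_lit 2, nat_lit 0, nat_lit 1, nat_lit 3, nat_lit 1, nat_lit 0, nat_lit 1, nat_lit 2, nat_lit 0, nat_lit 1, nat_lit 3, nat_lit 1, nat_lit 0] else [nat_lit 63, nat_lit 2, nat_lit 1, nat_lit 2, nat_lit 0, nat_lit 1, nat_lit 2, nat_lit 3, nat_lit 2, nat_lit 1, nat_lit 2, nat_lit 0, nat_lit 1, nat_lit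 2, nat_lit 3, nat_lit 2, nat_lit 1, nat_lit 2, nat_lit 0, nat_lit 1, nat_lit 2, nat_lit 3]
def Wt_116_119 (j : ℕ) : List ℕ := bif Nat.blt j 117 then [nat_lit 2, nat_lit 3, nat_lit 1, nat_lit 3, nat_lit 1, nat_lit 0, nat_lit 2, nat_lit 3, nat_lit 1, nat_lit 3, nat_lit 1, nat_lit 0, nat_lit 2, nat_lit 3, nat_lit 1, nat_lit 3, nat_lit 1, nat_lit 0] else (Wt_117_119 j)
def Wt_120_122 (j : ℕ) : List ℕ := bif Nat.blt j 121 then [nat_lit 63, nat_lit 0, nat_lit 1, nat_lit 2, nat_lit 0, nat_lit 1, nat_lit 3, nat_lit 1, nat_lit 0, nat_lit 1, nat_lit 2, nat_lit 0, nat_lit 1, nat_lit 3, nat_lit 1, nat_lit 0, nat_lit 1, nat_lit 2, nat_lit 0, nat_lit 1, nat_lit 3, nat_lit 1] else [nat_lit 2, nat_lit 3, nat_lit 2, nat_lit 1, nat_lit 0, nat_lit 2, nat_lit 1, nat_lit 2, nat_lit 3, nat_lit 2, nat_lit 1, nat_lit 0, nat_lit 2, nat_lit 1, nat_lit 2, nat_lit 3, nat_lit 2,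 nat_lit 1, nat_lit 0, nat_lit 2, nat_lit 1]
def Wt_119_122 (j : ℕ) : List ℕ := bif Nat.blt j 120 then [nat_lit 63, nat_lit 3, nat_lit 1, nat_lit 2, nat_lit 0, nat_lit 2, nat_lit 3, nat_lit 1, nat_lit 2, nat_lit 0, nat_lit 2, nat_lit 3, nat_lit 1, nat_lit 2, nat_lit 0, nat_lit 2, nat_lit 3, nat_lit 1, nat_lit 2, nat_lit 0, nat_lit 2] else (Wt_120_122 j)
def Wt_116_122 (j : ℕ) : List ℕ := bif Nat.blt j 119 then (Wt_116_119 j) else (Wt_119_122 j)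
def Wt_111_122 (j : ℕ) : List ℕ := bif Nat.blt j 116 then (Wt_111_116 j) else (Wt_116_122 j)
def Wt_101_122 (j : ℕ) : List ℕ := bif Nat.blt j 111 then (Wt_101_111 j) else (Wt_111_122 j)
def Wt_81_122 (j : ℕ) : List ℕ := bif Nat.blt j 101 then (Wt_81_101 j) else (Wt_101_122 j)
def Wt_122_124 (j : ℕ) : List ℕ := bif Nat.blt j 123 then [nat_lit 63, nat_lit 2, nat_lit 0, nat_lit 1, nat_lit 2, nat_lit 1, nat_lit 2, nat_lit 0, nat_lit 1, nat_lit 2, nat_lit 1, nat_lit 2, nat_lit 0, nat_lit 1, nat_lit 2, nat_lit 1, nat_lit 2, nat_lit 0, nat_lit 1, nat_lit 2, nat_lit 1, nat_lit 2, nat_lit 0, nat_lit 1, nat_lit 2, nat_lit 1] else [nat_lit 63, nat_lit 1, nat_lit 2, nat_lit 1, nat_lit 0, nat_lit 2, nat_lit 1, nat_lit 2, nat_lit 1, nat_lit 0, nat_lit 2, nat_lit 1, nat_lit 2, nat_lit 1, nat_lit 0, nat_lit 2, nat_lit 1, nat_lit 2, nat_lit 1, nat_lit 0, nat_lit 2, nat_lit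 1, nat_lit 2, nat_lit 1, nat_lit 0, nat_lit 2]
def Wt_125_127 (j : ℕ) : List ℕ := bif Nat.blt j 126 then [nat_lit 63, nat_lit 0, nat_lit 2, nat_lit 1, nat_lit 0, nat_lit 1, nat_lit 3, nat_lit 1, nat_lit 0, nat_lit 2, nat_lit 1, nat_lit 0, nat_lit 1, nat_lit 3, nat_lit 1, nat_lit 0, nat_lit 2, nat_lit 1, nat_lit 0, nat_lit 1, nat_lit 3, nat_lit 1] else [nat_lit 63, nat_lit 3, nat_lit 1, nat_lit 0, nat_lit 2, nat_lit 3, nat_lit 1, nat_lit 3, nat_lit 1, nat_lit 0, nat_lit 2, nat_lit 3, nat_lit 1, nat_lit 3, nat_lit 1, nat_lit 0, nat_lit 2, nat_lit 3, nat_lit 1]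
def Wt_124_127 (j : ℕ) : List ℕ := bif Nat.blt j 125 then [nat_lit 63, nat_lit 1, nat_lit 0, nat_lit 2, nat_lit 0, nat_lit 3, nat_lit 1, nat_lit 0, nat_lit 2, nat_lit 0, nat_lit 3, nat_lit 1, nat_lit 0, nat_lit 2, nat_lit 0, nat_lit 3, nat_lit 1, nat_lit 0, nat_lit 2, nat_lit 0, nat_lit 3] else (Wt_125_127 j)
def Wt_122_127 (j : ℕ) : List ℕ := bif Nat.blt j 124 then (Wt_122_124 j) else (Wt_124_127 j)
def Wt_127_129 (j : ℕ) : List ℕ := bif Nat.blt j 128 then [nat_lit 63, nat_lit 2, nat_lit 0, nat_lit 3, nat_lit 2, nat_lit 0, nat_lit 3, nat_lit 1, nat_lit 2, nat_lit 0, nat_lit 3, nat_lit 2, nat_lit 0, nat_lit 3, nat_lit 1, nat_lit 2, nat_lit 0, nat_lit 3, nat_lit 2, nat_lit 0, nat_lit 3, nat_lit 1] else [nat_lit 63, nat_lit 2, nat_lit 0, nat_lit 1, nat_lit 3, nat_lit 1, nat_lit 0, nat_lit 1, nat_lit 2, nat_lit 0, nat_lit 1, nat_lit 3, nat_lit 1, nat_lit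 0, nat_lit 1, nat_lit 2, nat_lit 0, nat_lit 1, nat_lit 3, nat_lit 1, nat_lit 0, nat_lit 1]
def Wt_130_132 (j : ℕ) : List ℕ := bif Nat.blt j 131 then [nat_lit 63, nat_lit 1, nat_lit 0, nat_lit 1, nat_lit 3, nat_lit 1, nat_lit 0, nat_lit 2, nat_lit 1, nat_lit 0, nat_lit 1, nat_lit 3, nat_lit 1, nat_lit 0, nat_lit 2, nat_lit 1, nat_lit 0, nat_lit 1, nat_lit 3, nat_lit 1, nat_lit 0, nat_lit 2] else [nat_lit 63, nat_lit 3, nat_lit 1, nat_lit 3, nat_lit 1, nat_lit 0, nat_lit 2, nat_lit 3, nat_lit 1, nat_lit 3, nat_lit 1, nat_lit 0, nat_lit 2, nat_lit 3, nat_lit 1, nat_lit 3, nat_lit 1, nat_lit 0, nat_lit 2]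
def Wt_129_132 (j : ℕ) : List ℕ := bif Nat.blt j 130 then [nat_lit 63, nat_lit 0, nat_lit 1, nat_lit 3, nat_lit 1, nat_lit 3, nat_lit 2, nat_lit 0, nat_lit 1, nat_lit 3, nat_lit 1, nat_lit 3, nat_lit 2, nat_lit 0, nat_lit 1, nat_lit 3, nat_lit 1, nat_lit 3, nat_lit 2] else (Wt_130_132 j)
def Wt_127_132 (j : ℕ) : List ℕ := bif Nat.blt j 129 then (Wt_127_129 j) else (Wt_129_132 j)
def Wt_122_132 (j : ℕ) : List ℕ := bif Nat.blt j 127 then (Wt_122_127 j) else (Wt_127_132 j)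
def Wt_132_134 (j : ℕ) : List ℕ := bif Nat.blt j 133 then [nat_lit 63, nat_lit 1, nat_lit 3, nat_lit 1, nat_lit 0, nat_lit 2, nat_lit 3, nat_lit 1, nat_lit 3, nat_lit 1, nat_lit 0, nat_lit 2, nat_lit 3, nat_lit 1, nat_lit 3, nat_lit 1, nat_lit 0, nat_lit 2, nat_lit 3] else [nat_lit 63, nat_lit 3, nat_lit 2, nat_lit 0, nat_lit 3, nat_lit 1, nat_lit 2, nat_lit 0, nat_lit 3, nat_lit 2, nat_lit 0, nat_lit 3, nat_lit 1, nat_lit 2, nat_lit 0, nat_lit 3, nat_lit 2, nat_lit 0, nat_lit 3, nat_lit 1, nat_lit 2, nat_lit 0]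
def Wt_135_137 (j : ℕ) : List ℕ := bif Nat.blt j 136 then [nat_lit 63, nat_lit 1, nat_lit 0, nat_lit 2, nat_lit 1, nat_lit 2, nat_lit 1, nat_lit 0, nat_lit 2, nat_lit 1, nat_lit 2, nat_lit 1, nat_lit 0, nat_lit 2, nat_lit 1, nat_lit 2, nat_lit 1, nat_lit 0, nat_lit 2, nat_lit 1, nat_lit 2, nat_lit 1, nat_lit 0, nat_lit 2, nat_lit 1, nat_lit 2] else [nat_lit 2, nat_lit 0, nat_lit 2, nat_lit 1, nat_lit 3, nat_lit 1, nat_lit 2, nat_lit 0, nat_lit 2, nat_lit 1, nat_lit 3, nat_lit 1, nat_lit 2, nat_lit 0, nat_lit 2, nat_lit 1, nat_lit 3, nat_lit 1]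
def Wt_134_137 (j : ℕ) : List ℕ := bif Nat.blt j 135 then [nat_lit 0, nat_lit 2, nat_lit 1, nat_lit 3, nat_lit 0, nat_lit 2, nat_lit 3, nat_lit 0, nat_lit 2, nat_lit 1, nat_lit 3, nat_lit 0, nat_lit 2, nat_lit 3, nat_lit 0, nat_lit 2, nat_lit 1, nat_lit 3, nat_lit 0, nat_lit 2, nat_lit 3] else (Wt_135_137 j)
def Wt_132_137 (j : ℕ) : List ℕ := bif Nat.blt j 134 then (Wt_132_134 j) else (Wt_134_137 j)
def Wt_137_139 (j : ℕ) : List ℕ := bif Nat.blt j 138 then [nat_lit 63, nat_lit 2, nat_lit 0, nat_lit 1, nat_lit 3, nat_lit 1, nat_lit 3, nat_lit 2, nat_lit 0, nat_lit 1, nat_lit 3, nat_lit 1, nat_lit 3, nat_lit 2, nat_lit 0, nat_lit 1, nat_lit 3, nat_lit 1, nat_lit 3] else [nat_lit 63, nat_lit 0, nat_lit 1, nat_lit 3, nat_lit 1, nat_lit 0, nat_lit 1, nat_lit 2, nat_lit 0, nat_lit 1, nat_lit 3, nat_lit 1, nat_lit 0, nat_lit 1, nat_lit 2, nat_lit 0, nat_lit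 1, nat_lit 3, nat_lit 1, nat_lit 0, nat_lit 1, nat_lit 2]
def Wt_140_142 (j : ℕ) : List ℕ := bif Nat.blt j 141 then [nat_lit 63, nat_lit 2, nat_lit 0, nat_lit 3, nat_lit 1, nat_lit 0, nat_lit 2, nat_lit 0, nat_lit 3, nat_lit 1, nat_lit 0, nat_lit 2, nat_lit 0, nat_lit 3, nat_lit 1, nat_lit 0, nat_lit 2, nat_lit 0, nat_lit 3, nat_lit 1, nat_lit 0] else [nat_lit 63, nat_lit 0, nat_lit 1, nat_lit 3, nat_lit 1, nat_lit 0, nat_lit 2, nat_lit 1, nat_lit 0, nat_lit 1, nat_lit 3, nat_lit 1, nat_lit 0, nat_lit 2, nat_lit 1, nat_lit 0, nat_lit 1, nat_lit 3, nat_lit 1, nat_lit 0, nat_lit 2, nat_lit 1]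
def Wt_139_142 (j : ℕ) : List ℕ := bif Nat.blt j 140 then [nat_lit 63, nat_lit 1, nat_lit 2, nat_lit 0, nat_lit 3, nat_lit 2, nat_lit 0, nat_lit 3, nat_lit 1, nat_lit 2, nat_lit 0, nat_lit 3, nat_lit 2, nat_lit 0, nat_lit 3, nat_lit 1, nat_lit 2, nat_lit 0, nat_lit 3, nat_lit 2, nat_lit 0, nat_lit 3] else (Wt_140_142 j)
def Wt_137_142 (j : ℕ) : List ℕ := bif Nat.blt j 139 then (Wt_137_139 j) else (Wt_139_142 j)
def Wt_132_142 (j : ℕ) : List ℕ := bif Nat.blt j 137 then (Wt_132_137 j) else (Wt_137_142 j)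
def Wt_122_142 (j : ℕ) : List ℕ := bif Nat.blt j 132 then (Wt_122_132 j) else (Wt_132_142 j)
def Wt_142_144 (j : ℕ) : List ℕ := bif Nat.blt j 143 then [nat_lit 63, nat_lit 2, nat_lit 1, nat_lit 2, nat_lit 1, nat_lit 0, nat_lit 2, nat_lit 1, nat_lit 2, nat_lit 1, nat_lit 0, nat_lit 2, nat_lit 1, nat_lit 2, nat_lit 1, nat_lit 0, nat_lit 2, nat_lit 1, nat_lit 2, nat_lit 1, nat_lit 0, nat_lit 2, nat_lit 1, nat_lit 2, nat_lit 1, nat_lit 0] else [nat_lit 63, nat_lit 0, nat_lit 1, nat_lit 2, nat_lit 1, nat_lit 2, nat_lit 0, nat_lit 1, nat_lit 2, nat_lit 1, nat_lit 2, nat_lit 0, nat_lit 1, nat_lit 2, nat_lit 1, nat_lit 2, nat_lit 0, nat_lit 1, nat_lit 2, nat_lit 1, nat_lit 2, nat_lit 0, nat_lit 1, nat_lit 2, nat_lit 1, nat_lit 2]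
def Wt_145_147 (j : ℕ) : List ℕ := bif Nat.blt j 146 then [nat_lit 0, nat_lit 3, nat_lit 1, nat_lit 2, nat_lit 0, nat_lit 3, nat_lit 2, nat_lit 0, nat_lit 3, nat_lit 1, nat_lit 2, nat_lit 0, nat_lit 3, nat_lit 2, nat_lit 0, nat_lit 3, nat_lit 1, nat_lit 2, nat_lit 0, nat_lit 3, nat_lit 2] else [nat_lit 63, nat_lit 3, nat_lit 0, nat_lit 2, nat_lit 3, nat_lit 0, nat_lit 2, nat_lit 1, nat_lit 3, nat_lit 0, nat_lit 2, nat_lit 3, nat_lit 0, nat_lit 2, nat_lit 1, nat_lit 3, nat_lit 0, nat_lit 2, nat_lit 3, nat_lit 0, nat_lit 2, nat_lit 1]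
def Wt_144_147 (j : ℕ) : List ℕ := bif Nat.blt j 145 then [nat_lit 63, nat_lit 0, nat_lit 2, nat_lit 1, nat_lit 2, nat_lit 3, nat_lit 2, nat_lit 1, nat_lit 0, nat_lit 2, nat_lit 1, nat_lit 2, nat_lit 3, nat_lit 2, nat_lit 1, nat_lit 0, nat_lit 2, nat_lit 1, nat_lit 2, nat_lit 3, nat_lit 2, nat_lit 1] else (Wt_145_147 j)
def Wt_142_147 (j : ℕ) : List ℕ := bif Nat.blt j 144 then (Wt_142_144 j) else (Wt_144_147 j)
def Wt_147_149 (j : ℕ) : List ℕ := bif Nat.blt j 148 then [nat_lit 63, nat_lit 1, nat_lit 2, nat_lit 0, nat_lit 1, nat_lit 2, nat_lit 3, nat_lit 2, nat_lit 1, nat_lit 2, nat_lit 0, nat_lit 1, nat_lit 2, nat_lit 3, nat_lit 2, nat_lit 1, nat_lit 2, nat_lit 0, nat_lit 1, nat_lit 2, nat_lit 3, nat_lit 2] else [nat_lit 63, nat_lit 3, nat_lit 63, nat_lit 3, nat_lit 63]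
def Wt_150_152 (j : ℕ) : List ℕ := bif Nat.blt j 151 then [nat_lit 63, nat_lit 2, nat_lit 63, nat_lit 2, nat_lit 63] else [nat_lit 63, nat_lit 1, nat_lit 63, nat_lit 1, nat_lit 63]
def Wt_149_152 (j : ℕ) : List ℕ := bif Nat.blt j 150 then [nat_lit 63, nat_lit 63, nat_lit 63] else (Wt_150_152 j)
def Wt_147_152 (j : ℕ) : List ℕ := bif Nat.blt j 149 then (Wt_147_149 j) else (Wt_149_152 j)
def Wt_142_152 (j : ℕ) : List ℕ := bif Nat.blt j 147 then (Wt_142_147 j) else (Wt_147_152 j)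
def Wt_152_154 (j : ℕ) : List ℕ := bif Nat.blt j 153 then [nat_lit 63, nat_lit 0, nat_lit 63, nat_lit 0, nat_lit 63] else [nat_lit 63, nat_lit 63, nat_lit 2, nat_lit 63, nat_lit 2]
def Wt_155_157 (j : ℕ) : List ℕ := bif Nat.blt j 156 then [nat_lit 63, nat_lit 63, nat_lit 0, nat_lit 63, nat_lit 0] else [nat_lit 63, nat_lit 63, nat_lit 0, nat_lit 63, nat_lit 0, nat_lit 63]
def Wt_154_157 (j : ℕ) : List ℕ := bif Nat.blt j 155 then [nat_lit 63, nat_lit 63, nat_lit 1, nat_lit 63, nat_lit 1] else (Wt_155_157 j)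
def Wt_152_157 (j : ℕ) : List ℕ := bif Nat.blt j 154 then (Wt_152_154 j) else (Wt_154_157 j)
def Wt_158_160 (j : ℕ) : List ℕ := bif Nat.blt j 159 then [nat_lit 63, nat_lit 63, nat_lit 1, nat_lit 63, nat_lit 1, nat_lit 63] else [nat_lit 63, nat_lit 63, nat_lit 63, nat_lit 63]
def Wt_157_160 (j : ℕ) : List ℕ := bif Nat.blt j 158 then [nat_lit 63, nat_lit 63, nat_lit 3, nat_lit 63, nat_lit 3] else (Wt_158_160 j)
def Wt_161_163 (j : ℕ) : List ℕ := bif Nat.blt j 162 then [nat_lit 63, nat_lit 63, nat_lit 2, nat_lit 63, nat_lit 2, nat_lit 63] else [nat_lit 63, nat_lit 63, nat_lit 63, nat_lit 63, nat_lit 63]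
def Wt_160_163 (j : ℕ) : List ℕ := bif Nat.blt j 161 then [nat_lit 63, nat_lit 63, nat_lit 3, nat_lit 63, nat_lit 3, nat_lit 63] else (Wt_161_163 j)
def Wt_157_163 (j : ℕ) : List ℕ := bif Nat.blt j 160 then (Wt_157_160 j) else (Wt_160_163 j)
def Wt_152_163 (j : ℕ) : List ℕ := bif Nat.blt j 157 then (Wt_152_157 j) else (Wt_157_163 j)
def Wt_142_163 (j : ℕ) : List ℕ := bif Nat.blt j 152 then (Wt_142_152 j) else (Wt_152_163 j)
def Wt_122_163 (j : ℕ) : List ℕ := bif Nat.blt j 142 then (Wt_122_142 j) else (Wt_142_163 j)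
def Wt_81_163 (j : ℕ) : List ℕ := bif Nat.blt j 122 then (Wt_81_122 j) else (Wt_122_163 j)
def Wt_0_163 (j : ℕ) : List ℕ := bif Nat.blt j 81 then (Wt_0_81 j) else (Wt_81_163 j)
def Wt (j : ℕ) : List ℕ := (Wt_0_163 j)
def W (j : ℕ) : List ℕ := bif Nat.blt j 163 then Wt j else []
theorem W_ge (j : ℕ) (h : 163 ≤ j) : W j = [] := by
  unfold W
  rw [blt_false_of_le h]
  rfl
def Hl : List ℕ := [nat_lit 0, nat_lit 1, nat_lit 2]
def isH (y : ℕ) : Bool := List.elem y Hl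
def Rb : List (List ℕ) := [[nat_lit 0, nat_lit 0],
  [nat_lit 1, nat_lit 1],
  [nat_lit 1, nat_lit 0, nat_lit 1, nat_lit 0, nat_lit 1, nat_lit 0, nat_lit 1, nat_lit 0, nat_lit 1, nat_lit 0],
  [nat_lit 2, nat_lit 2],
  [nat_lit 2, nat_lit 0, nat_lit 2, nat_lit 0],
  [nat_lit 2, nat_lit 1, nat_lit 2, nat_lit 1, nat_lit 2, nat_lit 1],
  [nat_lit 0, nat_lit 1, nat_lit 2, nat_lit 1, nat_lit 2, nat_lit 0, nat_lit 1, nat_lit 2, nat_lit 1, nat_lit 2, nat_lit 0, nat_lit 1, nat_lit 2, nat_lit 1, nat_lit 2, nat_lit 0, nat_lit 1, nat_lit 2, nat_lit 1, nat_lit 2, nat_lit 0, nat_lit 1, nat_lit 2, nat_lit 1, nat_lit 2],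
  [nat_lit 3, nat_lit 3],
  [nat_lit 0, nat_lit 2, nat_lit 3, nat_lit 0, nat_lit 2, nat_lit 1, nat_lit 3, nat_lit 0, nat_lit 2, nat_lit 3, nat_lit 0, nat_lit 2, nat_lit 1, nat_lit 3, nat_lit 0, nat_lit 2, nat_lit 3, nat_lit 0, nat_lit 2, nat_lit 1, nat_lit 3],
  [nat_lit 3, nat_lit 1, nat_lit 0, nat_lit 1, nat_lit 2, nat_lit 0, nat_lit 1, nat_lit 3, nat_lit 1, nat_lit 0, nat_lit 1, nat_lit 2, nat_lit 0, nat_lit 1, nat_lit 3, nat_lit 1, nat_lit 0, nat_lit 1, nat_lit 2, nat_lit 0, nat_lit 1],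
  [nat_lit 0, nat_lit 1, nat_lit 2, nat_lit 3, nat_lit 2, nat_lit 1, nat_lit 2, nat_lit 0, nat_lit 1, nat_lit 2, nat_lit 3, nat_lit 2, nat_lit 1, nat_lit 2, nat_lit 0, nat_lit 1, nat_lit 2, nat_lit 3, nat_lit 2, nat_lit 1, nat_lit 2],
  [nat_lit 1, nat_lit 2, nat_lit 0, nat_lit 2, nat_lit 3, nat_lit 1, nat_lit 2, nat_lit 0, nat_lit 2, nat_lit 3, nat_lit 1, nat_lit 2, nat_lit 0, nat_lit 2, nat_lit 3, nat_lit 1, nat_lit 2, nat_lit 0, nat_lit 2, nat_lit 3],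
  [nat_lit 0, nat_lit 1, nat_lit 3, nat_lit 0, nat_lit 2, nat_lit 0, nat_lit 1, nat_lit 3, nat_lit 0, nat_lit 2, nat_lit 0, nat_lit 1, nat_lit 3, nat_lit 0, nat_lit 2, nat_lit 0, nat_lit 1, nat_lit 3, nat_lit 0, nat_lit 2],
  [nat_lit 3, nat_lit 1, nat_lit 3, nat_lit 2, nat_lit 0, nat_lit 1, nat_lit 3, nat_lit 1, nat_lit 3, nat_lit 2, nat_lit 0, nat_lit 1, nat_lit 3, nat_lit 1, nat_lit 3, nat_lit 2, nat_lit 0, nat_lit 1],
  [nat_lit 3, nat_lit 1, nat_lit 2, nat_lit 0, nat_lit 2, nat_lit 1, nat_lit 3, nat_lit 1, nat_lit 2, nat_lit 0, nat_lit 2, nat_lit 1, nat_lit 3, nat_lit 1, nat_lit 2, nat_lit 0, nat_lit 2, nat_lit 1],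
  []]
def spT_1_3 (j : ℕ) : ℕ := bif Nat.blt j 2 then nat_lit 0x40110000a01b00002013000060190000200d0000800c00006015000040120000801600008014000060120000601b0000a011000040140000401800002004000000110000a013000020120000800d0000801b000080180000a01300000010000080150000c0120000200d0000201a0000a01c00000017000000120000c0140000601c0000a01100002016000020170000801c0000401b0000401700002010000080190000001c0000200c000060180000c0130000201b000080110000800c00006019000060120000a01400000006000000040000c0100000600c0000400d0000a01c000040120000401400002017000000120000200a000020100000a012 else nat_lit 0x1e000000060000000e0000001e000000020000000e000000000000000000000002000000060000000000000002000000060000001e0000000e0000a0140000c010000000110000c0150000000c0000000d0000801300000019000020110000a0120000601a0000601c0000600d00008010000080110000801b0000601b000060130000801a00008012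
def spT_0_3 (j : ℕ) : ℕ := bif Nat.blt j 1 then nat_lit 0x801a0000601a0000000a00004013000060180000601400002013000020080000200c0000400c0000a01a0000000e000000130000600c0000001c0000601300004013000080130000c014000020120000000d0000800d0000001b0000401a0000c0130000000e00004019000060110000201c0000801200004010000000180000401c0000c0120000601700000015000000140000801c000020180000401b0000401c0000600d000000040000400c00004018000000000000000000006016000000160000a01b000080140000000a0000001300000006000000080000201900000002000000020000201600002004000020080000200a0000201c00000008 else (spT_1_3 j)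
def spT (j : ℕ) : ℕ := (spT_0_3 j)
def sp (j : ℕ) : ℕ := Nat.land (Nat.shiftRight (spT (Nat.shiftRight j 6)) (Nat.mul (Nat.land j 63) 32)) 4294967295
theorem Eo_lt (r : ℕ) : Eo r < 18014398509481984 := land54_lt _
def cT (j : ℕ) : ℕ := nat_lit 0x10000006000003000002000001000000
noncomputable def cChunk (h : ℕ) : ℕ := Nat.rec (motive := fun _ => ℕ) (cT 0) (fun n _ => cT (Nat.succ n)) h
noncomputable def cF (i : ℕ) : ℕ := Nat.land (Nat.shiftRight (cChunk (Nat.shiftRight i 7)) (Nat.mul (Nat.land i 127) 24)) 16777215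
theorem cF_lt (i : ℕ) : cF i < 16777216 := land24_lt _
theorem cF_zero : cF 0 = 0 := by decide +kernel
def nDef : ℕ := 9633
def nEv : ℕ := 19464
def nW : ℕ := 163
def N : ℕ := 6
def ys : List ℕ := [nat_lit 0, nat_lit 1, nat_lit 2, nat_lit 3]
def Js : List ℕ := [nat_lit 0, nat_lit 1, nat_lit 2, nat_lit 3]
def Jp : List ℕ := [nat_lit 0, nat_lit 1, nat_lit 2]
end Cfsg.Agent.Lib.ToddCox.M21C1
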